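import Cfsg.Agent.Chev.ReeF4.Weyl
import Mathlib.GroupTheory.SpecificGroups.Dihedral

/-!
The elements commuting with the symmetry form a dihedral group of order sixteen.
-/

set_option autoImplicit false
set_option maxRecDepth 100000

namespace Cfsg.Agent.Chev

open Cfsg.Lie

namespace ReeF4

/-- The word of an element of the dihedral group of order sixteen. -/
def dWord : DihedralGroup 8 → List (Fin 2)
  | .r i => (List.replicate i.val [0, 1]).flatten
  | .sr i => 0 :: (List.replicate i.val [0, 1]).flatten

/-- The rotation. -/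
def rot : Equiv.Perm (Fin chevF4.nroots) := wA 0 * wA 1

theorem rot_pow_pt : ∀ r, pW (List.replicate 8 ([0, 1] : List (Fin 2))).flatten r = r := by
  decide +kernel

theorem dWord_one : ∀ x : DihedralGroup 8, (∀ r, pW (dWord x) r = r) → x = 1 := by decide +kernel

theorem pW_replicate (n : ℕ) :
    pW (List.replicate n ([0, 1] : List (Fin 2))).flatten = rot ^ n := by
  induction n with
  | zero => rfl
  | succ n ih =>
    rw [List.replicate_succ, List.flatten_cons, pW_append, ih, pow_succ', pW_cons, pW_single]
    rfl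

theorem rot_pow : rot ^ 8 = 1 := by
  rw [← pW_replicate]; exact Equiv.ext rot_pow_pt

/-- An element of the dihedral group as a permutation of the roots. -/
def dFun : DihedralGroup 8 → Equiv.Perm (Fin chevF4.nroots)
  | .r i => rot ^ i.val
  | .sr i => wA 0 * rot ^ i.val

theorem dFun_eq (x : DihedralGroup 8) : dFun x = pW (dWord x) := by
  cases x with
  | r i => exact (pW_replicate _).symm
  | sr i => rw [dFun, dWord, pW_cons, pW_replicate]

theorem rot_add (i j : ZMod 8) : rot ^ (i + j).val = rot ^ i.val * rot ^ j.val := by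
  rw [ZMod.val_add, ← pow_eq_pow_mod _ rot_pow, pow_add]

theorem wA_rot (n : ℕ) : rot ^ n * wA 0 = wA 0 * rot⁻¹ ^ n := by
  induction n with
  | zero => simp
  | succ n ih =>
    have h : rot * wA 0 = wA 0 * rot⁻¹ := by
      rw [rot, mul_inv_rev, wA_inv, wA_inv, mul_assoc]
    rw [pow_succ, mul_assoc, h, ← mul_assoc, ih, mul_assoc, ← pow_succ]

theorem rot_sub (i j : ZMod 8) : rot⁻¹ ^ i.val * rot ^ j.val = rot ^ (j - i).val := by
  rw [inv_pow, inv_mul_eq_iff_eq_mul, ← rot_add, add_sub_cancel]

/-- The dihedral group as a group of permutations of the roots. -/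
def dHom : DihedralGroup 8 →* Equiv.Perm (Fin chevF4.nroots) :=
  MonoidHom.mk' dFun fun x y => by
    cases x with
    | r i =>
      cases y with
      | r j => simp only [DihedralGroup.r_mul_r, dFun, rot_add]
      | sr j =>
        simp only [DihedralGroup.r_mul_sr, dFun]
        rw [← mul_assoc, wA_rot, mul_assoc, rot_sub]
    | sr i =>
      cases y with
      | r j => simp only [DihedralGroup.sr_mul_r, dFun, rot_add, mul_assoc]
      | sr j =>
        simp only [DihedralGroup.sr_mul_sr, dFun]
        rw [← mul_assoc, mul_assoc _ (rot ^ _) (wA 0), wA_rot, ← mul_assoc, wA_sq, one_mul,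
          rot_sub]

theorem dHom_injective : Function.Injective dHom :=
  (injective_iff_map_eq_one dHom).2 fun x hx => dWord_one x fun r => by
    rw [← dFun_eq]
    exact Equiv.ext_iff.1 hx r

theorem dHom_range {p : Equiv.Perm (Fin chevF4.nroots)} : p ∈ dHom.range ↔ InW1 p := by
  constructor
  · rintro ⟨x, rfl⟩
    show InW1 (dFun x)
    rw [dFun_eq]
    exact inW1_pW _
  · intro hp
    obtain ⟨k, rfl⟩ := exists_wd hp
    have h0 : wA 0 ∈ dHom.range := ⟨.sr 0, by show wA 0 * rot ^ 0 = _; rw [pow_zero, mul_one]⟩
    have h1 : wA 1 ∈ dHom.range := ⟨.sr 1, by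
      show wA 0 * rot ^ 1 = _
      rw [pow_one, rot, ← mul_assoc, wA_sq, one_mul]⟩
    induction wd k with
    | nil => exact Subgroup.one_mem _
    | cons a ws ih =>
      rw [pW_cons]
      refine Subgroup.mul_mem _ ?_ ih
      obtain rfl | rfl : a = 0 ∨ a = 1 := by omega
      exacts [h0, h1]

end ReeF4

end Cfsg.Agent.Chev
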