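import Cfsg.Agent.Chev.ReeF4.Main
import Cfsg.Agent.Chev.ReeF4.Dihedral
import Cfsg.Agent.S0319
import Mathlib.GroupTheory.IsPerfect

/-!
Perfectness, simplicity and the Weyl group of `²F₄`.
-/

set_option autoImplicit false
set_option maxRecDepth 100000
set_option maxHeartbeats 1000000

namespace Cfsg.Agent.Chev

open Cfsg.Lie
open scoped MatrixGroups commutatorElement

universe u

namespace ReeF4

variable {K : Type u} [Field K] [CharP K 2] {m : ℕ}

theorem tor_fst_conj (hm : IsTheta K m) (a : Kˣ) (t : K) :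
    tor m (a, 1) * yA m t * (tor m (a, 1))⁻¹ = yA m ((a : K) ^ 2 * t) := by
  obtain ⟨t', ht'⟩ := mem_fm_A (torus_conj_fm hm ⟨(a, 1), rfl⟩ (yA_mem_fm hm t))
  rw [ht']
  set c := tv (Units.map (th K m).toMonoidHom a) (Units.map (th K m).toMonoidHom (1 : Kˣ)) 1 a
    with hc
  have e : tor m (a, 1) * yA m t * (tor m (a, 1))⁻¹ =
      W2 ((chiU c 33 : K) * th K m t) ((chiU c 24 : K) * t) := by
    show torusHom c * W2 (th K m t) t * (torusHom c)⁻¹ = _
    rw [W2, W2, ← mul_assoc, torusHom_conj facts_chevF4 c (r := 33) (by decide),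
      mul_assoc _ (torusHom c), torusHom_conj facts_chevF4 c (r := 24) (by decide), ← mul_assoc,
      mul_inv_cancel_right]
  rw [ht'] at e
  obtain ⟨-, h2⟩ := W2_injective e
  rw [h2]
  congr 2
  have hcol : ([0, 1, 2, 3] : List (Fin 4)).map (fun j : Fin 4 => chevF4.cartan j 24) =
      [0, 0, -1, 2] := by decide +kernel
  simp only [List.map_cons, List.map_nil, List.cons.injEq, and_true] at hcol
  have : chiU c 24 = a ^ 2 := by
    show ∏ j : Fin 4, c j ^ chevF4.cartan j 24 = _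
    rw [Fin.prod_univ_four, hcol.1, hcol.2.1, hcol.2.2.1, hcol.2.2.2]
    simp [hc, tv]
  rw [this, Units.val_pow_eq_pow_val]

omit [CharP K 2] in
theorem cols : ([0, 1, 2, 3] : List (Fin 4)).map (fun j : Fin 4 => chevF4.cartan j 25) =
      [0, -2, 2, -1] ∧
    ([0, 1, 2, 3] : List (Fin 4)).map (fun j : Fin 4 => chevF4.cartan j 28) = [-1, 0, 1, -1] := by
  decide +kernel

theorem chi_snd (b : Kˣ) :
    chiU (tv (Units.map (th K m).toMonoidHom (1 : Kˣ)) (Units.map (th K m).toMonoidHom b) b 1) 25 =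
        (Units.map (th K m).toMonoidHom b)⁻¹ ^ 2 * b ^ 2 ∧
      chiU (tv (Units.map (th K m).toMonoidHom (1 : Kˣ)) (Units.map (th K m).toMonoidHom b) b 1) 28 =
        b := by
  obtain ⟨h25, h28⟩ := cols
  simp only [List.map_cons, List.map_nil, List.cons.injEq, and_true] at h25 h28
  constructor
  · show ∏ j : Fin 4, _ ^ chevF4.cartan j 25 = _
    rw [Fin.prod_univ_four, h25.1, h25.2.1, h25.2.2.1, h25.2.2.2]
    simp [tv, inv_pow]
  · show ∏ j : Fin 4, _ ^ chevF4.cartan j 28 = _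
    rw [Fin.prod_univ_four, h28.1, h28.2.1, h28.2.2.1, h28.2.2.2]
    simp [tv]

theorem torus_conj_W4 (c : Fin chevF4.rank → Kˣ) (a b z w : K) :
    torusHom c * W4 a b z w * (torusHom c)⁻¹ =
      W4 ((chiU c 27 : K) * a) ((chiU c 25 : K) * b) ((chiU c 28 : K) * z)
        ((chiU c 30 : K) * w) := by
  rw [W4, W4, ← mul_assoc, ← mul_assoc, ← mul_assoc,
    torusHom_conj facts_chevF4 c (r := 27) (by decide),
    mul_assoc _ (torusHom c) (X 25 b), torusHom_conj facts_chevF4 c (r := 25) (by decide),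
    ← mul_assoc, mul_assoc _ (torusHom c) (X 28 z),
    torusHom_conj facts_chevF4 c (r := 28) (by decide), ← mul_assoc,
    mul_assoc _ (torusHom c) (X 30 w), torusHom_conj facts_chevF4 c (r := 30) (by decide),
    ← mul_assoc, mul_inv_cancel_right]

theorem tor_snd_conj (hm : IsTheta K m) (b : Kˣ) (t u : K) :
    ∃ u', tor m (1, b) * yB m t u * (tor m (1, b))⁻¹ =
        yB m ((((Units.map (th K m).toMonoidHom b)⁻¹ ^ 2 * b ^ 2 : Kˣ) : K) * t) u' ∧
      (t = 0 → u' = (b : K) * u) := by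
  obtain ⟨t', u', ht'⟩ := mem_fm_B (torus_conj_fm hm ⟨(1, b), rfl⟩ (yB_mem_fm hm t u))
  have e := ht'
  change torusHom _ * W4 _ _ _ _ * (torusHom _)⁻¹ = W4 _ _ _ _ at e
  rw [torus_conj_W4, (chi_snd b).1, (chi_snd b).2] at e
  obtain ⟨-, h2, h3, -⟩ := W4_injective e
  refine ⟨u', by rw [ht', ← h2], fun ht => ?_⟩
  rw [← h2, ht] at h3
  simpa using h3.symm

theorem yB_add (t u u' : K) : yB m t u * yB m 0 u' = yB m t (u + u') := by
  rw [yB, yB, yB, W4_mul]
  simp only [map_zero, map_add, CharTwo.add_sq, add_zero, zero_mul, zero_add, zero_pow two_ne_zero,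
    add_assoc]

theorem yA_add (t t' : K) : yA m t * yA m t' = yA m (t + t') := by
  rw [yA, yA, yA, W2_mul, map_add]

section Finite

variable [Fintype K] (hK : Fintype.card K = 2 ^ (2 * m + 1))
include hK

theorem card_formula : Nat.card ↥(twistedF4 K (2 ^ m)) =
    (2 ^ (2 * m + 1)) ^ 12 * (2 ^ (2 * m + 1) - 1) * ((2 ^ (2 * m + 1)) ^ 3 + 1) *
      ((2 ^ (2 * m + 1)) ^ 4 - 1) * ((2 ^ (2 * m + 1)) ^ 6 + 1) := by
  rw [card_G1 hK, hK]
  set q := 2 ^ (2 * m + 1) with hq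
  obtain ⟨r, hr⟩ : ∃ r, q = r + 1 := ⟨q - 1, (Nat.sub_add_cancel Nat.one_le_two_pow).symm⟩
  have h4 : q ^ 4 - 1 = r * (1 + q + q ^ 2 + q ^ 3) := by
    rw [hr]
    refine (Nat.sub_eq_iff_eq_add (Nat.one_le_pow _ _ (Nat.succ_pos r))).2 ?_
    show (r + 1) ^ 4 = _
    ring
  rw [h4, show q - 1 = r by omega]
  simp [Fin.sum_univ_succ, nN]
  ring

theorem card_posU : Nat.card ↥(chevF4.posUnipotent K ⊓ twistedF4 K (2 ^ m)) =
    (2 ^ (2 * m + 1)) ^ 12 := by
  rw [← fx_eq hK, ← hK]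
  exact card_U1 hK

theorem card_diagonal : Nat.card ↥(chevF4.diagonalSubgroup K ⊓ twistedF4 K (2 ^ m)) =
    (2 ^ (2 * m + 1) - 1) ^ 2 := by
  rw [← fx_eq hK, diagonal_inf_fx (isTheta hK), card_T1, hK]

theorem exists_weylHom : ∃ φ : ↥(chevF4.monomialSubgroup K ⊓ twistedF4 K (2 ^ m)) →* DihedralGroup 8,
    Function.Surjective φ ∧ φ.ker = (chevF4.diagonalSubgroup K ⊓ twistedF4 K (2 ^ m)).subgroupOf
      (chevF4.monomialSubgroup K ⊓ twistedF4 K (2 ^ m)) := by
  have hm := isTheta hK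
  set N := chevF4.monomialSubgroup K ⊓ twistedF4 K (2 ^ m) with hN
  have hmem : ∀ g : ↥N, monPerm facts_chevF4.{u} (g : GL chevF4.Idx K) ∈ dHom.range := by
    intro g
    obtain ⟨k, h, hh, e⟩ := (mem_monomial_fx hm).1 ⟨g.2.1, G1_le_fx hm g.2.2⟩
    rw [e, monPerm_eq facts_chevF4 (isMon_mul facts_chevF4 (isMon_nW (wd k)) (isMon_T1 hh)),
      mul_one]
    exact dHom_range.2 (inW1_pW _)
  let ψ : ↥N →* ↥(dHom.range) :=
    ((monHom facts_chevF4.{u}).comp (Subgroup.inclusion inf_le_left)).codRestrict dHom.range hmem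
  let e := MonoidHom.ofInjective dHom_injective
  refine ⟨e.symm.toMonoidHom.comp ψ, e.symm.surjective.comp ?_, ?_⟩
  · rintro ⟨p, hp⟩
    obtain ⟨k, rfl⟩ := exists_wd (dHom_range.1 hp)
    exact ⟨⟨nW (wd k), nW_mem_monomial _, nW_mem_G1 _⟩, Subtype.ext (monPerm_nW (wd k))⟩
  · ext g
    simp only [MonoidHom.mem_ker, MonoidHom.comp_apply, MulEquiv.coe_toMonoidHom,
      MulEquiv.map_eq_one_iff, Subgroup.mem_subgroupOf, Subgroup.mem_inf]
    rw [show ψ g = 1 ↔ monPerm facts_chevF4.{u} (g : GL chevF4.Idx K) = 1 from Subtype.ext_iff]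
    constructor
    · intro h
      refine ⟨mem_diagonal_of_isMon_one facts_chevF4 g.2.1 ?_, g.2.2⟩
      rw [← h]
      exact isMon_monPerm facts_chevF4 g.2.1
    · intro h
      obtain ⟨c, hc⟩ := (mem_diagonal_iff facts_chevF4).1 h.1
      rw [← hc]
      exact monPerm_eq facts_chevF4 (isMon_torus facts_chevF4 c)

theorem conj_mem_comm {x g : GL chevF4.Idx K} (hg : g ∈ twistedF4 K (2 ^ m))
    (hx : x ∈ ⁅twistedF4 K (2 ^ m), twistedF4 K (2 ^ m)⁆) :
    g * x * g⁻¹ ∈ ⁅twistedF4 K (2 ^ m), twistedF4 K (2 ^ m)⁆ := by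
  rw [show g * x * g⁻¹ = ⁅g, x⁆ * x by rw [commutatorElement_def]; group]
  exact Subgroup.mul_mem _
    (Subgroup.commutator_mem_commutator hg (Subgroup.commutator_le_self _ hx)) hx

theorem perfect (hm1 : 1 ≤ m) : commutator ↥(twistedF4 K (2 ^ m)) = ⊤ := by
  classical
  have hm := isTheta hK
  set G := twistedF4 K (2 ^ m) with hG
  obtain ⟨w, hw⟩ : ∃ w : Kˣ, w ≠ 1 := by
    haveI : Nontrivial Kˣ := Fintype.one_lt_card_iff_nontrivial.1 (by
      rw [Fintype.card_units, hK]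
      have : 2 ^ 3 ≤ 2 ^ (2 * m + 1) := Nat.pow_le_pow_right two_pos (by omega)
      omega)
    exact exists_ne 1
  have hw1 : (w : K) ≠ 1 := fun e => hw (Units.ext e)
  have sq_ne : ∀ x : K, x ^ 2 = 1 → x = 1 := fun x hx => by
    have h0 : (x + 1) ^ 2 = 0 := by rw [CharTwo.add_sq, hx, one_pow, CharTwo.add_self_eq_zero]
    have := eq_neg_of_add_eq_zero_left (pow_eq_zero_iff two_ne_zero |>.1 h0)
    rwa [neg_eq] at this
  have plus_one : ∀ x : K, x ≠ 1 → x + 1 ≠ 0 := fun x hx h => hx (by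
    have := eq_neg_of_add_eq_zero_left h
    rwa [neg_eq] at this)
  have hA : ∀ t, yA m t ∈ ⁅G, G⁆ := fun t => by
    have hne := plus_one _ fun e => hw1 (sq_ne _ e)
    set s := t / ((w : K) ^ 2 + 1) with hs
    have hts : t = (w : K) ^ 2 * s + s := by rw [hs]; field_simp
    have hinv : (yA m s)⁻¹ = yA m s := inv_eq_of_mul_eq_one_right (by
      rw [yA_add, CharTwo.add_self_eq_zero, yA, map_zero, W2_zero])
    rw [show yA m t = ⁅tor m (w, 1), yA m s⁆ by
      rw [commutatorElement_def, tor_fst_conj hm, hinv, yA_add, ← hts]]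
    exact Subgroup.commutator_mem_commutator (T1_le_G1 hK ⟨_, rfl⟩) (yA_mem_G1 _)
  have hB0 : ∀ u, yB m 0 u ∈ ⁅G, G⁆ := fun u => by
    have hne := plus_one _ hw1
    set s := u / ((w : K) + 1) with hs
    have hus : u = (w : K) * s + s := by rw [hs]; field_simp
    obtain ⟨u', e, h0⟩ := tor_snd_conj hm w 0 s
    have hinv : (yB m 0 s)⁻¹ = yB m 0 s := inv_eq_of_mul_eq_one_right (by
      rw [yB_add, CharTwo.add_self_eq_zero]
      simp [yB, W4_zero])
    rw [show yB m 0 u = ⁅tor m (1, w), yB m 0 s⁆ by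
      rw [commutatorElement_def, e, hinv, mul_zero, h0 rfl, yB_add, ← hus]]
    exact Subgroup.commutator_mem_commutator (T1_le_G1 hK ⟨_, rfl⟩) (yB_mem_G1 _ _)
  have hB : ∀ t u, yB m t u ∈ ⁅G, G⁆ := fun t u => by
    set χ : K := (((Units.map (th K m).toMonoidHom w)⁻¹ ^ 2 * w ^ 2 : Kˣ) : K) with hχ
    have hχ1 : χ ≠ 1 := fun e => by
      have e1 : ((th K m (w : K))⁻¹ * (w : K)) ^ 2 = 1 := by
        rw [← e, hχ]; simp [mul_pow]
      have e2 := sq_ne _ e1
      rw [inv_mul_eq_one₀ (by simp)] at e2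
      have e3 := th_th hm (w : K)
      rw [e2, e2] at e3
      exact hw1 (mul_left_cancel₀ (Units.ne_zero w) (by rw [mul_one, ← pow_two]; exact e3))
    have hne := plus_one _ hχ1
    set s := t / (χ + 1) with hs
    have hts : t = χ * s + s := by rw [hs]; field_simp
    obtain ⟨u', e, -⟩ := tor_snd_conj hm w s 0
    have hy : ⁅tor m (1, w), yB m s 0⁆ ∈ fm K m (wA 1) := by
      rw [commutatorElement_def, e]
      exact Subgroup.mul_mem _ (yB_mem_fm hm _ _) (Subgroup.inv_mem _ (yB_mem_fm hm _ _))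
    obtain ⟨t₁, u₁, e1⟩ := mem_fm_B hy
    have e2 : yB m t₁ u₁ * yB m s 0 = yB m (χ * s) u' := by
      rw [← e1, commutatorElement_def, e, inv_mul_cancel_right]
    rw [yB, yB, yB, W4_mul] at e2
    obtain ⟨-, h2, -, -⟩ := W4_injective e2
    have ht1 : t₁ = t := by
      rw [hts, ← h2]
      linear_combination -(s * two_eq (K := K))
    have hmem : yB m t u₁ ∈ ⁅G, G⁆ := by
      rw [← ht1, ← e1]
      exact Subgroup.commutator_mem_commutator (T1_le_G1 hK ⟨_, rfl⟩) (yB_mem_G1 _ _)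
    have e3 : yB m t u = yB m t u₁ * yB m 0 (u₁ + u) := by
      rw [yB_add]
      congr 1
      linear_combination -(u₁ * two_eq (K := K))
    rw [e3]
    exact Subgroup.mul_mem _ hmem (hB0 _)
  have hle : G ≤ ⁅G, G⁆ := by
    intro g hg
    rw [hG, G1_eq] at hg
    refine (Subgroup.closure_le _).2 ?_ hg
    have hz : ∀ a, ∀ y ∈ ⁅G, G⁆, sO a * y * sO a ∈ ⁅G, G⁆ := fun a y hy => by
      have := conj_mem_comm hK (sO_mem_G1 a) hy
      rwa [sO_inv] at this
    rintro g (⟨t, rfl | rfl⟩ | ⟨t, u, rfl | rfl⟩)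
    exacts [hA t, hz _ _ (hA t), hB t u, hz _ _ (hB t u)]
  apply Subgroup.map_injective G.subtype_injective
  rw [Subgroup.map_subtype_commutator, ← MonoidHom.range_eq_map, Subgroup.range_subtype]
  exact le_antisymm (Subgroup.commutator_le_self _) hle

theorem core_trivial : ((chevF4.borelSubgroup K ⊓ twistedF4 K (2 ^ m)).subgroupOf
    (twistedF4 K (2 ^ m))).normalCore = ⊥ := by
  have hm := isTheta hK
  rw [eq_bot_iff]
  intro g hg
  set C := ((chevF4.borelSubgroup K ⊓ twistedF4 K (2 ^ m)).subgroupOf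
    (twistedF4 K (2 ^ m))).normalCore with hC
  have hCB : ∀ y ∈ C, (y : GL chevF4.Idx K) ∈ chevF4.borelSubgroup K ⊓ fx m := fun y hy => by
    have := Subgroup.mem_subgroupOf.1 (Subgroup.normalCore_le _ hy)
    rwa [G1_inf_borel hK] at this
  set n : GL chevF4.Idx K := nW (wd 15)
  have hH : ∀ y ∈ C, (y : GL chevF4.Idx K) ∈ T1 K m := by
    intro y hy
    have h := hCB _ (Subgroup.Normal.conj_mem inferInstance y hy (⟨n, nW_mem_G1 _⟩⁻¹))
    simp only [inv_inv, Subgroup.coe_mul, Subgroup.coe_inv] at h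
    obtain ⟨v, hv, t, ht, e⟩ := (mem_borel_fx hm).1 h
    rw [U1_eq_fm] at hv
    refine (diagonal_inf_fx hm).le ⟨?_, (hCB y hy).2⟩
    rw [← borel_inf_negBorel facts_chevF4]
    refine ⟨(hCB y hy).1, ?_⟩
    rw [show (y : GL chevF4.Idx K) = n * v * n⁻¹ * (n * t * n⁻¹) by
      rw [show n * v * n⁻¹ * (n * t * n⁻¹) = n * (v * t) * n⁻¹ by group, ← e]; group]
    refine Subgroup.mul_mem _
      (Subgroup.mem_sup_left (conj_uMinus facts_chevF4 (isMon_nW _) hv.1)) (Subgroup.mem_sup_right ?_)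
    obtain ⟨c, rfl⟩ := (mem_diagonal_iff facts_chevF4).1 (T1_le_diagonal ht)
    obtain ⟨c', hc'⟩ := nWord_torus facts_chevF4 (flat (wd 15)) c (F := K)
    show nWord facts_chevF4 (flat (wd 15)) * torusHom c *
      (nWord facts_chevF4 (flat (wd 15)))⁻¹ ∈ _
    rw [hc', mul_inv_cancel_right]
    exact torusHom_mem facts_chevF4 c'
  have hcomm : ∀ a, ∀ y ∈ fm K m (wA a), (g : GL chevF4.Idx K) * y = y * g := by
    intro a y hy
    have hyG := fm_wA_le_G1 a hy
    have h := hH _ (Subgroup.Normal.conj_mem inferInstance g hg ⟨y, hyG⟩)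
    simp only [Subgroup.coe_mul, Subgroup.coe_inv] at h
    have h2 : y * g * y⁻¹ * (g : GL chevF4.Idx K)⁻¹ ∈
        chevF4.posUnipotent K ⊓ chevF4.diagonalSubgroup K := by
      refine ⟨?_, Subgroup.mul_mem _ (T1_le_diagonal h)
        (Subgroup.inv_mem _ (T1_le_diagonal (hH g hg)))⟩
      rw [show y * g * y⁻¹ * (g : GL chevF4.Idx K)⁻¹ = y * (g * y⁻¹ * (g : GL chevF4.Idx K)⁻¹) by
        group]
      exact Subgroup.mul_mem _ (fm_le_U1 _ hy).1
        (fm_le_U1 _ (torus_conj_fm hm (hH g hg) (Subgroup.inv_mem _ hy))).1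
    rw [posUnipotent_inf_diagonal facts_chevF4, Subgroup.mem_bot, mul_inv_eq_one,
      mul_inv_eq_iff_eq_mul] at h2
    exact h2.symm
  obtain ⟨p, hp⟩ := hH g hg
  rw [Subgroup.mem_bot]
  apply Subtype.ext
  rw [Subgroup.coe_one, ← hp]
  set c := tv (Units.map (th K m).toMonoidHom p.1) (Units.map (th K m).toMonoidHom p.2) p.2 p.1
  change torusHom c = (g : GL chevF4.Idx K) at hp
  show torusHom c = 1
  refine MonoidHom.mem_ker.1 ((mem_torusHom_ker facts_chevF4 c).2 (funext fun i => ?_))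
  show chiU c (chevF4.simple i) = 1
  have hA := hcomm 0 _ (yA_mem_fm hm 1)
  have hB := hcomm 1 _ (yB_mem_fm hm 1 0)
  rw [← hp, ← mul_inv_eq_iff_eq_mul] at hA hB
  have eA : torusHom c * W2 (th K m (1 : K)) 1 * (torusHom c)⁻¹ =
      W2 ((chiU c 33 : K) * th K m 1) ((chiU c 24 : K) * 1) := by
    rw [W2, W2, ← mul_assoc, torusHom_conj facts_chevF4 c (r := 33) (by decide),
      mul_assoc _ (torusHom c), torusHom_conj facts_chevF4 c (r := 24) (by decide), ← mul_assoc,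
      mul_inv_cancel_right]
  rw [yA, eA] at hA
  rw [yB, torus_conj_W4] at hB
  obtain ⟨h33, h24⟩ := W2_injective hA
  obtain ⟨h27, h25, -, -⟩ := W4_injective hB
  rw [map_one, mul_one] at h33 h27
  rw [mul_one] at h24 h25
  obtain ⟨s0, s1, s2, s3⟩ := simple_vals
  apply Units.ext
  rw [Units.val_one]
  fin_cases i
  · show (chiU c (chevF4.simple 0) : K) = 1
    rw [s0]; exact h33
  · show (chiU c (chevF4.simple 1) : K) = 1
    rw [s1]; exact h27
  · show (chiU c (chevF4.simple 2) : K) = 1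
    rw [s2]; exact h25
  · show (chiU c (chevF4.simple 3) : K) = 1
    rw [s3]; exact h24

theorem irreducible : (bnPair hK).Irreducible := by
  classical
  intro J hJ hJne hJc
  obtain ⟨s, hs⟩ := hJne
  obtain ⟨a, rfl⟩ := hJ hs
  obtain ⟨r, hr⟩ := hJc
  obtain ⟨b, rfl⟩ := hr.1
  refine ⟨_, hs, _, hr, fun h => ?_⟩
  have hab : a ≠ b := fun e => hr.2 (e ▸ hs)
  have hN : ∀ c, (sO c : GL chevF4.Idx K) ∈ chevF4.monomialSubgroup K := sO_mem_monomial
  have hd := isMon_T1 (borel_monomial_fx (isTheta hK)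
    (g := sO a * sO b * (sO a)⁻¹ * (sO b)⁻¹)
    ((G1_inf_borel hK).le (Subgroup.mem_subgroupOf.1 h))
    (Subgroup.mul_mem _ (Subgroup.mul_mem _ (Subgroup.mul_mem _ (hN a) (hN b))
      (Subgroup.inv_mem _ (hN a))) (Subgroup.inv_mem _ (hN b))))
  rw [sO_inv, sO_inv] at hd
  have h2 := isMon_unique facts_chevF4.{u} hd (isMon_mul facts_chevF4 (isMon_mul facts_chevF4
    (isMon_mul facts_chevF4 (isMon_sO a) (isMon_sO b)) (isMon_sO a)) (isMon_sO b))
  have h3 : wA a * wA b = wA b * wA a := by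
    have := congrArg (· * (wA b * wA a)) h2
    simp only [one_mul] at this
    rw [this, show wA a * wA b * wA a * wA b * (wA b * wA a) =
      wA a * wA b * (wA a * (wA b * wA b) * wA a) by group, wA_sq, mul_one, wA_sq, mul_one]
  obtain rfl | rfl : a = 0 ∨ a = 1 := by omega
  all_goals obtain rfl | rfl : b = 0 ∨ b = 1 := by omega
  exacts [hab rfl, wA_comm_ne h3, wA_comm_ne h3.symm, hab rfl]

theorem simple (hm1 : 1 ≤ m) : IsSimpleGroup ↥(twistedF4 K (2 ^ m)) ∧
    ¬ IsMulCommutative ↥(twistedF4 K (2 ^ m)) := by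
  have : Nontrivial ↥(twistedF4 K (2 ^ m)) := ⟨⟨⟨yA m 1, yA_mem_G1 _⟩, 1, fun e => by
    have h : yA m (1 : K) = 1 := congrArg Subtype.val e
    rw [← W2_zero (K := K)] at h
    exact one_ne_zero (W2_injective h).2⟩⟩
  refine ⟨Cfsg.Agent.S0319.result (bnPair hK) (irreducible hK) ?_ (perfect hK hm1)
    (core_trivial hK), ?_⟩
  · show Group.IsSolvable ↥((chevF4.borelSubgroup K ⊓ twistedF4 K (2 ^ m)).subgroupOf
      (twistedF4 K (2 ^ m)))
    have := borel_isSolvable facts_chevF4.{u} (F := K)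
    exact Group.isSolvable_of_isSolvable_injective
      (f := ((twistedF4 K (2 ^ m)).subtype.comp ((chevF4.borelSubgroup K ⊓
        twistedF4 K (2 ^ m)).subgroupOf (twistedF4 K (2 ^ m))).subtype).codRestrict
        (chevF4.borelSubgroup K) fun g => (Subgroup.mem_subgroupOf.1 g.2).1)
      fun x y e => Subtype.ext (Subtype.ext (congrArg Subtype.val e :))
  · intro hc
    have h0 : commutator ↥(twistedF4 K (2 ^ m)) = ⊥ := by
      rw [commutator_def, Subgroup.commutator_eq_bot_iff_le_centralizer]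
      intro x _ y _
      exact hc.is_comm.comm y x
    exact top_ne_bot ((perfect hK hm1).symm.trans h0)

end Finite

/-- The characteristic from the order. -/
theorem charP_two {K : Type u} [Field K] [Fintype K] {m : ℕ}
    (hK : Fintype.card K = 2 ^ (2 * m + 1)) : CharP K 2 :=
  haveI : Fact (Nat.Prime 2) := ⟨Nat.prime_two⟩
  charP_of_card_eq_prime_pow hK

end ReeF4

end Cfsg.Agent.Chev
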