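import Cfsg.Agent.Chev.Special.Basic
import Cfsg.Agent.Chev.All
import Cfsg.Prelude.Def_ChevF4
import Mathlib.Data.ZMod.Basic

/-!
Identities between words of `F₄` over the field with two elements, checked on matrices whose rows
are the bits of natural numbers, and carried to any field of characteristic two.
-/

set_option autoImplicit false
set_option maxRecDepth 100000

namespace Cfsg.Agent.Chev

open Cfsg.Lie
open scoped MatrixGroups

universe u

namespace ReeF4

/-- A truth value in the field with two elements. -/
def b2z (b : Bool) : ZMod 2 := if b then 1 else 0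

theorem b2z_xor (x y : Bool) : b2z (x ^^ y) = b2z x + b2z y := by
  cases x <;> cases y <;> decide

/-- The linear coordinate. -/
def lin (a : chevF4.Idx) : ℕ := (finSumFinEquiv a : Fin (chevF4.rank + chevF4.nroots)).val

theorem lin_lt (a : chevF4.Idx) : lin a < 52 := Fin.isLt _

/-- The coordinate with a given number. -/
def unlin (a : ℕ) : chevF4.Idx :=
  finSumFinEquiv.symm (⟨a % 52, Nat.mod_lt _ (by norm_num)⟩ : Fin (chevF4.rank + chevF4.nroots))

theorem unlin_lin (a : chevF4.Idx) : unlin (lin a) = a := by
  rw [unlin, Equiv.symm_apply_eq]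
  exact Fin.ext (Nat.mod_eq_of_lt (lin_lt a))

/-- A combination of rows. -/
def comb (f : ℕ → Bool) (B : ℕ → ℕ) : List ℕ → ℕ
  | [] => 0
  | k :: l => if f k then B k ^^^ comb f B l else comb f B l

theorem testBit_comb (f : ℕ → Bool) (B : ℕ → ℕ) (j : ℕ) : ∀ l : List ℕ,
    b2z ((comb f B l).testBit j) = (l.map fun k => b2z (f k) * b2z ((B k).testBit j)).sum
  | [] => by simp [comb, b2z]
  | k :: l => by
    rw [comb, List.map_cons, List.sum_cons, ← testBit_comb f B j l]
    by_cases h : f k = true
    · rw [if_pos h, Nat.testBit_xor, b2z_xor, h]; simp [b2z]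
    · rw [if_neg h]; simp [b2z, h]

/-- The matrix of a list of rows. -/
def toM (A : List ℕ) : Matrix chevF4.Idx chevF4.Idx (ZMod 2) :=
  Matrix.of fun a b => b2z ((A.getD (lin a) 0).testBit (lin b))

/-- The product of two lists of rows. -/
def mulB (A B : List ℕ) : List ℕ :=
  (List.range 52).map fun a => comb (fun k => (A.getD a 0).testBit k) (fun k => B.getD k 0)
    (List.range 52)

theorem getD_range_map (f : ℕ → ℕ) {a : ℕ} (ha : a < 52) :
    ((List.range 52).map f).getD a 0 = f a := by
  simp [List.getD_eq_getElem?_getD, ha]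

theorem sum_range (f : ℕ → ZMod 2) : ((List.range 52).map f).sum =
    ∑ k : Fin (chevF4.rank + chevF4.nroots), f k :=
  (show ((List.range 52).map f).sum = ∑ k ∈ Finset.range 52, f k from rfl).trans
    (Finset.sum_range f)

theorem lin_symm (k : Fin (chevF4.rank + chevF4.nroots)) :
    lin (finSumFinEquiv.symm k) = (k : ℕ) :=
  congrArg Fin.val (Equiv.apply_symm_apply finSumFinEquiv k)

theorem toM_mulB (A B : List ℕ) : toM (mulB A B) = toM A * toM B := by
  ext a b
  simp only [toM, Matrix.of_apply, mulB, getD_range_map _ (lin_lt a), Matrix.mul_apply,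
    testBit_comb]
  rw [← Equiv.sum_comp finSumFinEquiv.symm, sum_range]
  simp only [lin_symm]

/-- The rows of the identity. -/
def oneB : List ℕ := (List.range 52).map fun a => 2 ^ a

theorem toM_oneB : toM oneB = 1 := by
  ext a b
  simp only [toM, Matrix.of_apply, oneB, getD_range_map _ (lin_lt a), Matrix.one_apply,
    Nat.testBit_two_pow, b2z]
  by_cases h : a = b
  · subst h; simp
  · rw [if_neg h, if_neg]
    simp only [decide_eq_true_eq]
    exact fun e => h (by rw [← unlin_lin a, e, unlin_lin])

/-- The rows of a root element with parameter one. -/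
def xB (r : ℕ) : List ℕ :=
  (List.range 52).map fun a =>
    comb (fun b => ((xCoefs chevF4 r (unlin a) (unlin b)).map Prod.snd).sum % 2 == 1)
      (fun b => 2 ^ b) (List.range 52)

theorem toM_xB {r : ℕ} (hr : r < 48) : toM (xB r) = chevF4.x (ZMod 2) r 1 := by
  ext a b
  rw [toM, Matrix.of_apply, xB, getD_range_map _ (lin_lt a), testBit_comb, sum_range,
    xMat_eq_xCoefs ⟨r, hr⟩]
  rw [Finset.sum_eq_single (⟨lin b, lin_lt b⟩ : Fin (chevF4.rank + chevF4.nroots))]
  · simp only [unlin_lin, Nat.testBit_two_pow, decide_true, one_pow, mul_one]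
    rw [show b2z true = 1 from rfl, mul_one]
    set z := ((xCoefs chevF4 r a b).map Prod.snd).sum with hz
    have e : ((((xCoefs chevF4 r a b).map fun km => ((km.2 : ℤ) : ZMod 2))).sum) = (z : ZMod 2) := by
      rw [hz, Int.cast_list_sum, List.map_map]; rfl
    rw [e]
    rcases Int.emod_two_eq_zero_or_one z with h | h
    · rw [h, (ZMod.intCast_eq_intCast_iff' z 0 2).2 (by simpa using h)]; rfl
    · rw [h, (ZMod.intCast_eq_intCast_iff' z 1 2).2 (by simpa using h)]; rfl
  · intro k _ hk
    rw [Nat.testBit_two_pow]
    have : decide ((k : ℕ) = lin b) = false := decide_eq_false fun e => hk (Fin.ext e)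
    rw [this]; simp [b2z]
  · simp

/-- The rows of a word with all parameters one. -/
def wordB : List ℕ → List ℕ
  | [] => oneB
  | r :: w => mulB (xB r) (wordB w)

theorem toM_wordB : ∀ w : List ℕ, (∀ r ∈ w, r < 48) →
    toM (wordB w) = chevF4.wordMat (ZMod 2) (w.map fun r => (r, (1 : ZMod 2)))
  | [], _ => toM_oneB
  | r :: w, h => by
    rw [wordB, toM_mulB, toM_xB (h r (List.mem_cons_self ..)),
      toM_wordB w fun q hq => h q (List.mem_cons_of_mem _ hq)]
    simp [ChevalleyDatum.wordMat]

/-- An identity of words over the prime field holds in every field of characteristic two. -/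
theorem word_eq {K : Type u} [Field K] [CharP K 2] {v w : List ℕ}
    (hv : ∀ r ∈ v, r < 48) (hw : ∀ r ∈ w, r < 48) (h : wordB v = wordB w) :
    wordG facts_chevF4 (v.map fun r => (r, (1 : K))) =
      wordG facts_chevF4 (w.map fun r => (r, (1 : K))) := by
  let f : ZMod 2 →+* K := ZMod.castHom (dvd_refl 2) K
  haveI : Fact (Nat.Prime 2) := ⟨Nat.prime_two⟩
  have h' : wordG facts_chevF4 (v.map fun r => (r, (1 : ZMod 2))) =
      wordG facts_chevF4 (w.map fun r => (r, (1 : ZMod 2))) := by
    apply Units.ext
    rw [wordG_val, wordG_val, ← toM_wordB v hv, ← toM_wordB w hw, h]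
  have h'' := congrArg (gmap chevF4 f) h'
  rw [gmap_wordG facts_chevF4 facts_chevF4, gmap_wordG facts_chevF4 facts_chevF4, List.map_map,
    List.map_map] at h''
  simpa [Function.comp_def] using h''

/-- The decomposition of the second fundamental element. -/
theorem sB_word : wordB [27, 20, 27, 25, 22, 25, 27, 20, 27, 25, 22, 25] =
    wordB [28, 30, 20, 22, 17, 27, 25, 28] := by
  decide +kernel

end ReeF4

end Cfsg.Agent.Chev
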