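import Cfsg.Agent.Chev.ReeF4.Weyl
import Cfsg.Agent.Chev.ReeF4.Prime2
import Cfsg.Agent.Chev.Twist.Weyl
import Mathlib.FieldTheory.Finite.Basic

/-!
The group `²F₄` as the group of fixed elements, and its Bruhat decomposition.
-/

set_option autoImplicit false
set_option maxRecDepth 100000
set_option maxHeartbeats 1000000

namespace Cfsg.Agent.Chev

open Cfsg.Lie
open scoped MatrixGroups

universe u

namespace ReeF4

variable {K : Type u} [Field K] [CharP K 2] {m : ℕ}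

/-- The representative of a word in orbits. -/
def nW (ws : List (Fin 2)) : GL chevF4.Idx K := nWord facts_chevF4 (flat ws)

/-- The two fundamental monomial elements. -/
def sO (a : Fin 2) : GL chevF4.Idx K := nWord facts_chevF4 (orb a)

/-- The fixed elements of `U`. -/
noncomputable def U1 (K : Type u) [Field K] [CharP K 2] (m : ℕ) : Subgroup (GL chevF4.Idx K) :=
  chevF4.posUnipotent K ⊓ fx m

/-- The fixed part of the factor of `U` attached to a permutation. -/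
noncomputable def fm (K : Type u) [Field K] [CharP K 2] (m : ℕ)
    (p : Equiv.Perm (Fin chevF4.nroots)) : Subgroup (GL chevF4.Idx K) :=
  uMinus facts_chevF4 p ⊓ fx m

/-- The fixed elements of `H`. -/
noncomputable def T1 (K : Type u) [Field K] [CharP K 2] (m : ℕ) : Subgroup (GL chevF4.Idx K) :=
  (tor (K := K) m).range

omit [CharP K 2] in
theorem isMon_nW (ws : List (Fin 2)) :
    IsMon facts_chevF4.{u} (nW ws : GL chevF4.Idx K) (pW ws) :=
  isMon_nWord facts_chevF4 _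

omit [CharP K 2] in
theorem isMon_sO (a : Fin 2) : IsMon facts_chevF4.{u} (sO a : GL chevF4.Idx K) (wA a) :=
  isMon_nWord facts_chevF4 _

omit [CharP K 2] in
theorem nW_nil : (nW [] : GL chevF4.Idx K) = 1 := rfl

omit [CharP K 2] in
theorem nW_cons (a : Fin 2) (ws : List (Fin 2)) :
    (nW (a :: ws) : GL chevF4.Idx K) = sO a * nW ws := by
  simp [nW, flat, sO, nWord_append]

omit [CharP K 2] in
theorem nW_append (us vs : List (Fin 2)) :
    (nW (us ++ vs) : GL chevF4.Idx K) = nW us * nW vs := by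
  simp [nW, flat, nWord_append]

omit [CharP K 2] in
theorem nW_single (a : Fin 2) : (nW [a] : GL chevF4.Idx K) = sO a := by
  rw [nW_cons, nW_nil, mul_one]

theorem nW_congr {us vs : List (Fin 2)} (h : pW us = pW vs) :
    (nW us : GL chevF4.Idx K) = nW vs := nWord_congr h

theorem sO_sq (a : Fin 2) : (sO a : GL chevF4.Idx K) * sO a = 1 := by
  rw [← nW_single, ← nW_append, nW_congr (vs := []) ?_, nW_nil]
  rw [pW_append, pW_single, wA_sq, pW_nil]

theorem sO_inv (a : Fin 2) : (sO a : GL chevF4.Idx K)⁻¹ = sO a :=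
  inv_eq_of_mul_eq_one_right (sO_sq a)

theorem nWord_mem_fx {w : List (Fin chevF4.rank)}
    (h : Commute rho (pWord facts_chevF4.{0} w)) :
    (nWord facts_chevF4 w : GL chevF4.Idx K) ∈ fx m := by
  have e : pWord facts_chevF4.{0} (w.map sw) = pWord facts_chevF4.{0} w :=
    mul_right_cancel ((rho_pWord w).symm.trans h.eq)
  have := isImg_nWord (m := m) (K := K) w
  rw [show (nWord facts_chevF4 (w.map sw) : GL chevF4.Idx K) = nWord facts_chevF4 w from
    nWord_congr e] at this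
  exact (mem_fx m).2 this

theorem nW_mem_fx (ws : List (Fin 2)) : (nW ws : GL chevF4.Idx K) ∈ fx m :=
  nWord_mem_fx (inW1_pW ws).2

theorem sO_mem_fx (a : Fin 2) : (sO a : GL chevF4.Idx K) ∈ fx m := by
  rw [← nW_single]; exact nW_mem_fx _

omit [CharP K 2] in
theorem nW_mem_monomial (ws : List (Fin 2)) :
    (nW ws : GL chevF4.Idx K) ∈ chevF4.monomialSubgroup K := nWord_mem facts_chevF4 _

omit [CharP K 2] in
theorem monPerm_nW (ws : List (Fin 2)) :
    monPerm facts_chevF4.{u} (nW ws : GL chevF4.Idx K) = pW ws :=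
  monPerm_eq facts_chevF4 (isMon_nW ws)

theorem fm_le_U1 (p : Equiv.Perm (Fin chevF4.nroots)) : fm K m p ≤ U1 K m :=
  inf_le_inf_right _ (uMinus_le_posUnipotent facts_chevF4 p)

theorem fm_one : fm K m 1 = ⊥ := by
  rw [eq_bot_iff]
  refine le_trans inf_le_left ((Subgroup.closure_le _).2 ?_)
  rintro g ⟨r, t, h1, h2, -⟩
  exact absurd h2 (not_lt.2 h1)

theorem yA_mem_fm (hm : IsTheta K m) (t : K) : yA m t ∈ fm K m (wA 0) := by
  refine ⟨Subgroup.mul_mem _ ?_ ?_, yA_mem_fx hm t⟩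
  · exact Subgroup.subset_closure ⟨⟨33, by decide⟩, _, by decide,
      (wA_inverted 0 _ (by decide)).1.2 (by decide), rfl⟩
  · exact Subgroup.subset_closure ⟨⟨24, by decide⟩, _, by decide,
      (wA_inverted 0 _ (by decide)).1.2 (by decide), rfl⟩

theorem yB_mem_fm (hm : IsTheta K m) (t u : K) : yB m t u ∈ fm K m (wA 1) := by
  have h : ∀ r : Fin chevF4.nroots, (r : ℕ) ∈ [25, 27, 28, 30] → ∀ v : K,
      X (r : ℕ) v ∈ uMinus facts_chevF4.{u} (wA 1) (F := K) := fun r hr v => by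
    have hp : half chevF4 ≤ (r : ℕ) := by
      simp only [List.mem_cons, List.not_mem_nil, or_false] at hr
      show 24 ≤ (r : ℕ)
      omega
    exact Subgroup.subset_closure ⟨r, v, hp, (wA_inverted 1 r hp).1.2 hr, rfl⟩
  exact ⟨Subgroup.mul_mem _ (Subgroup.mul_mem _ (Subgroup.mul_mem _
    (h ⟨27, by decide⟩ (by simp) _) (h ⟨25, by decide⟩ (by simp) _))
    (h ⟨28, by decide⟩ (by simp) _)) (h ⟨30, by decide⟩ (by simp) _), yB_mem_fx hm t u⟩

theorem mem_fm_A {g : GL chevF4.Idx K} (hg : g ∈ fm K m (wA 0)) : ∃ t, g = yA m t := by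
  obtain ⟨a, b, rfl⟩ := exists_W2 (fun x hx => by
    obtain ⟨r, t, h1, h2, rfl⟩ := hx
    exact ⟨_, t, (wA_inverted 0 r h1).1.1 h2, rfl⟩) hg.1
  exact ⟨b, exists_yA hg.2⟩

theorem mem_fm_B {g : GL chevF4.Idx K} (hg : g ∈ fm K m (wA 1)) : ∃ t u, g = yB m t u := by
  obtain ⟨a, b, c, d, rfl⟩ := exists_W4 (fun x hx => by
    obtain ⟨r, t, h1, h2, rfl⟩ := hx
    exact ⟨_, t, (wA_inverted 1 r h1).1.1 h2, rfl⟩) hg.1
  exact ⟨b, _, exists_yB hg.2⟩

omit [CharP K 2] in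
theorem wordG_pair (e r r' : ℕ) (t : K) :
    wordG facts_chevF4 (f4PairWord e r r' t) = X r (t ^ e) * X r' t := by
  simp [wordG, f4PairWord]

omit [CharP K 2] in
theorem wordG_b2 (e a b ab aab : ℕ) (t u : K) :
    wordG facts_chevF4 (b2ClassWord e a b ab aab t u) =
      X a (t ^ e) * X b t * X ab (t ^ (e + 1) + u) * X aab (u ^ (2 * e)) := by
  simp [wordG, b2ClassWord, mul_assoc]

theorem yA_eq (t : K) : yA m t = wordG facts_chevF4 (f4PairWord (2 ^ m) f4p1 f4p4 t) := by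
  rw [wordG_pair, yA, W2, th_apply]
  rfl

theorem yB_eq (t u : K) :
    yB m t u = wordG facts_chevF4 (b2ClassWord (2 ^ m) f4a f4b f4ab f4aab t u) := by
  rw [wordG_b2, yB, W4, th_apply, th_apply, pow_succ t, mul_comm 2 (2 ^ m), pow_mul u]
  rfl

theorem sO_X (a : Fin 2) {r r' : ℕ} (hr : r < chevF4.nroots)
    (hv : (wA a ⟨r, hr⟩ : ℕ) = r') (t : K) :
    sO a * X r t * sO a = X r' t := by
  subst hv
  have h := nWord_x (orb a) (⟨r, hr⟩ : Fin chevF4.nroots) t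
  rw [show (sO a : GL chevF4.Idx K) * X r t = _ from h, mul_assoc,
    show (nWord facts_chevF4 (orb a) : GL chevF4.Idx K) * sO a = 1 from sO_sq a, mul_one]
  rfl

theorem conj_mul (a : Fin 2) (g h : GL chevF4.Idx K) :
    sO a * (g * h) * sO a = (sO a * g * sO a) * (sO a * h * sO a) := by
  rw [show sO a * g * sO a * (sO a * h * sO a) = sO a * g * (sO a * sO a) * h * sO a by group,
    sO_sq]
  group

theorem zA_eq (t : K) :
    sO 0 * yA m t * sO 0 = wordG facts_chevF4 (f4PairWord (2 ^ m) f4m1 f4m4 t) := by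
  rw [wordG_pair, yA, W2, th_apply, conj_mul,
    sO_X 0 (r := 33) (by decide) ((wA_values.1 _).1 rfl), sO_X 0 (r := 24) (by decide) ((wA_values.1 _).2 rfl)]
  rfl

theorem zB_eq (t u : K) :
    sO 1 * yB m t u * sO 1 = wordG facts_chevF4 (b2ClassWord (2 ^ m) f4ma f4mb f4mab f4maab t u) := by
  rw [wordG_b2, yB, W4, th_apply, th_apply, pow_succ t, mul_comm 2 (2 ^ m), pow_mul u,
    conj_mul, conj_mul, conj_mul,
    sO_X 1 (r := 27) (by decide) ((wA_values.2 _).1 rfl),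
    sO_X 1 (r := 25) (by decide) ((wA_values.2 _).2.1 rfl),
    sO_X 1 (r := 28) (by decide) ((wA_values.2 _).2.2.1 rfl),
    sO_X 1 (r := 30) (by decide) ((wA_values.2 _).2.2.2 rfl)]
  rfl

/-- The generators of `²F₄`. -/
def gens (K : Type u) [Field K] [CharP K 2] (m : ℕ) : Set (GL chevF4.Idx K) :=
  {g | (∃ t, g = yA m t ∨ g = sO 0 * yA m t * sO 0) ∨
    ∃ t u, g = yB m t u ∨ g = sO 1 * yB m t u * sO 1}

theorem G1_eq : twistedF4 K (2 ^ m) = Subgroup.closure (gens K m) := by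
  refine congrArg Subgroup.closure (Set.ext fun g => ?_)
  constructor
  · rintro ⟨w, ⟨t, rfl | rfl⟩ | ⟨t, u, rfl | rfl⟩, e⟩
    · exact Or.inl ⟨t, Or.inl (Units.ext (by rw [yA_eq, wordG_val, e]))⟩
    · exact Or.inl ⟨t, Or.inr (Units.ext (by rw [zA_eq, wordG_val, e]))⟩
    · exact Or.inr ⟨t, u, Or.inl (Units.ext (by rw [yB_eq, wordG_val, e]))⟩
    · exact Or.inr ⟨t, u, Or.inr (Units.ext (by rw [zB_eq, wordG_val, e]))⟩
  · rintro (⟨t, rfl | rfl⟩ | ⟨t, u, rfl | rfl⟩)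
    · exact ⟨_, Or.inl ⟨t, Or.inl rfl⟩, by rw [yA_eq, wordG_val]⟩
    · exact ⟨_, Or.inl ⟨t, Or.inr rfl⟩, by rw [zA_eq, wordG_val]⟩
    · exact ⟨_, Or.inr ⟨t, u, Or.inl rfl⟩, by rw [yB_eq, wordG_val]⟩
    · exact ⟨_, Or.inr ⟨t, u, Or.inr rfl⟩, by rw [zB_eq, wordG_val]⟩

theorem yA_mem_G1 (t : K) : yA m t ∈ twistedF4 K (2 ^ m) := by
  rw [G1_eq]; exact Subgroup.subset_closure (Or.inl ⟨t, Or.inl rfl⟩)

theorem zA_mem_G1 (t : K) : sO 0 * yA m t * sO 0 ∈ twistedF4 K (2 ^ m) := by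
  rw [G1_eq]; exact Subgroup.subset_closure (Or.inl ⟨t, Or.inr rfl⟩)

theorem yB_mem_G1 (t u : K) : yB m t u ∈ twistedF4 K (2 ^ m) := by
  rw [G1_eq]; exact Subgroup.subset_closure (Or.inr ⟨t, u, Or.inl rfl⟩)

theorem zB_mem_G1 (t u : K) : sO 1 * yB m t u * sO 1 ∈ twistedF4 K (2 ^ m) := by
  rw [G1_eq]; exact Subgroup.subset_closure (Or.inr ⟨t, u, Or.inr rfl⟩)

theorem G1_le_fx (hm : IsTheta K m) : twistedF4 K (2 ^ m) ≤ fx m := by
  rw [G1_eq, Subgroup.closure_le]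
  rintro g (⟨t, rfl | rfl⟩ | ⟨t, u, rfl | rfl⟩)
  · exact yA_mem_fx hm t
  · exact Subgroup.mul_mem _ (Subgroup.mul_mem _ (sO_mem_fx 0) (yA_mem_fx hm t)) (sO_mem_fx 0)
  · exact yB_mem_fx hm t u
  · exact Subgroup.mul_mem _ (Subgroup.mul_mem _ (sO_mem_fx 1) (yB_mem_fx hm t u)) (sO_mem_fx 1)

theorem nG_eq (r : ℕ) (t : K) :
    nG facts_chevF4 r t = X r t * X (chevF4.neg r) t⁻¹ * X r t := by
  rw [nG, neg_eq]

theorem commute_nG_A (t u : K) :
    Commute (nG facts_chevF4 33 t) (nG facts_chevF4 24 u) := by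
  have h1 : ∀ a b : K, Commute (X 33 a) (X 24 b) := fun a b =>
    (X_comm (r := 33) (s := 24) (by decide) a b).symm
  have h2 : ∀ a b : K, Commute (X 33 a) (X 23 b) := fun a b =>
    (X_comm (r := 33) (s := 23) (by decide) a b).symm
  have h3 : ∀ a b : K, Commute (X 14 a) (X 24 b) := fun a b =>
    X_comm (r := 24) (s := 14) (by decide) b a
  have h4 : ∀ a b : K, Commute (X 14 a) (X 23 b) := fun a b =>
    (X_comm (r := 14) (s := 23) (by decide) a b).symm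
  rw [nG_eq, nG_eq, neg_vals.1, neg_vals.2.2.2]
  exact ((((h1 _ _).mul_right (h2 _ _)).mul_right (h1 _ _)).mul_left
    (((h3 _ _).mul_right (h4 _ _)).mul_right (h3 _ _))).mul_left
    (((h1 _ _).mul_right (h2 _ _)).mul_right (h1 _ _))

theorem nA_eq (t : K) : yA m t * (sO 0 * yA m t⁻¹ * sO 0) * yA m t =
    nG facts_chevF4 33 (th K m t) * nG facts_chevF4 24 t := by
  have h1 := (X_comm (r := 33) (s := 23) (by decide) (th K m t) t⁻¹).eq
  have h2 := (X_comm (r := 24) (s := 14) (by decide) t (th K m t)⁻¹).eq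
  have h3 := (X_comm (r := 33) (s := 24) (by decide) (th K m t) t).eq
  rw [nG_eq, nG_eq, neg_vals.1, neg_vals.2.2.2, yA, yA, W2, W2, conj_mul,
    sO_X 0 (r := 33) (by decide) ((wA_values.1 _).1 rfl), sO_X 0 (r := 24) (by decide) ((wA_values.1 _).2 rfl),
    map_inv₀]
  simp only [← mul_assoc]
  rw [mul_assoc _ (X 24 t) (X 14 _), ← h2, ← mul_assoc, mul_assoc _ (X 23 t⁻¹) (X 33 _), h1,
    ← mul_assoc, mul_assoc _ (X 24 t) (X 33 _), h3, ← mul_assoc]

theorem sO_zero_mem_G1 : (sO 0 : GL chevF4.Idx K) ∈ twistedF4 K (2 ^ m) := by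
  have e : (sO 0 : GL chevF4.Idx K) = nG facts_chevF4 33 1 * nG facts_chevF4 24 1 := by
    show nG facts_chevF4 (chevF4.simple 0) (1 : K) * (nG facts_chevF4 (chevF4.simple 3) 1 * 1) = _
    rw [simple_vals.1, simple_vals.2.2.2, mul_one]
  have h := nA_eq (m := m) (1 : K)
  rw [inv_one, map_one, ← e] at h
  rw [← h]
  exact Subgroup.mul_mem _ (Subgroup.mul_mem _ (yA_mem_G1 _) (zA_mem_G1 _)) (yA_mem_G1 _)

theorem sO_one_eq : (sO 1 : GL chevF4.Idx K) =
    yB m 0 1 * (sO 1 * yB m 1 1 * sO 1) * yB m 1 0 := by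
  have h := word_eq (K := K) (v := [27, 20, 27, 25, 22, 25, 27, 20, 27, 25, 22, 25])
    (w := [28, 30, 20, 22, 17, 27, 25, 28]) (by decide) (by decide) sB_word
  have e : (sO 1 : GL chevF4.Idx K) = wordG facts_chevF4
      (([27, 20, 27, 25, 22, 25, 27, 20, 27, 25, 22, 25] : List ℕ).map fun r => (r, (1 : K))) := by
    show nG facts_chevF4 (chevF4.simple 1) (1 : K) * (nG facts_chevF4 (chevF4.simple 2) 1 *
      (nG facts_chevF4 (chevF4.simple 1) 1 * (nG facts_chevF4 (chevF4.simple 2) 1 * 1))) = _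
    rw [simple_vals.2.1, simple_vals.2.2.1]
    simp [nG_eq, neg_vals, wordG, mul_assoc]
  rw [zB_eq, wordG_b2]
  conv_lhs => rw [e, h]
  simp [yB, W4, wordG, xG_zero, mul_assoc, f4ma, f4mb, f4mab, f4maab, CharTwo.add_self_eq_zero]

theorem sO_mem_G1 (a : Fin 2) : (sO a : GL chevF4.Idx K) ∈ twistedF4 K (2 ^ m) := by
  obtain rfl | rfl : a = 0 ∨ a = 1 := by omega
  · exact sO_zero_mem_G1
  · rw [sO_one_eq (m := m)]
    exact Subgroup.mul_mem _ (Subgroup.mul_mem _ (yB_mem_G1 _ _) (zB_mem_G1 _ _)) (yB_mem_G1 _ _)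

theorem nW_mem_G1 (ws : List (Fin 2)) : (nW ws : GL chevF4.Idx K) ∈ twistedF4 K (2 ^ m) := by
  induction ws with
  | nil => exact Subgroup.one_mem _
  | cons a ws ih => rw [nW_cons]; exact Subgroup.mul_mem _ (sO_mem_G1 a) ih

theorem fm_wA_le_G1 (a : Fin 2) : fm K m (wA a) ≤ twistedF4 K (2 ^ m) := by
  intro g hg
  obtain rfl | rfl : a = 0 ∨ a = 1 := by omega
  · obtain ⟨t, rfl⟩ := mem_fm_A hg
    exact yA_mem_G1 t
  · obtain ⟨t, u, rfl⟩ := mem_fm_B hg
    exact yB_mem_G1 t u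

theorem T1_le_fx (hm : IsTheta K m) : T1 K m ≤ fx m := by
  rintro g ⟨p, rfl⟩
  exact tor_mem_fx hm p

theorem torus_conj_fm (hm : IsTheta K m) {h : GL chevF4.Idx K} (hh : h ∈ T1 K m)
    {p : Equiv.Perm (Fin chevF4.nroots)} {g : GL chevF4.Idx K} (hg : g ∈ fm K m p) :
    h * g * h⁻¹ ∈ fm K m p := by
  refine ⟨?_, Subgroup.mul_mem _ (Subgroup.mul_mem _ (T1_le_fx hm hh) hg.2)
    (Subgroup.inv_mem _ (T1_le_fx hm hh))⟩
  obtain ⟨q, rfl⟩ := hh
  exact torus_conj_uGens facts_chevF4 _ hg.1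

theorem tor_left (t : Kˣ) : tor m (t, 1) ∈ twistedF4 K (2 ^ m) := by
  have h := Subgroup.mul_mem _ (Subgroup.mul_mem _ (Subgroup.mul_mem _ (yA_mem_G1 (m := m) (t : K))
    (zA_mem_G1 (m := m) (t : K)⁻¹)) (yA_mem_G1 (m := m) (t : K))) (sO_mem_G1 (m := m) (K := K) 0)
  rw [nA_eq] at h
  have e : (tor m (t, 1) : GL chevF4.Idx K) =
      nG facts_chevF4 33 (th K m (t : K)) * nG facts_chevF4 24 (t : K) * sO 0 := by
    have e1 : (sO 0 : GL chevF4.Idx K) = nG facts_chevF4 33 1 * nG facts_chevF4 24 1 := by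
      show nG facts_chevF4 (chevF4.simple 0) (1 : K) * (nG facts_chevF4 (chevF4.simple 3) 1 * 1) = _
      rw [simple_vals.1, simple_vals.2.2.2, mul_one]
    have e2 : ∀ r (s : K), nG facts_chevF4 r s * nG facts_chevF4 r 1 = hG facts_chevF4 r s :=
      fun r s => by rw [hG, neg_eq]
    rw [e1, show ∀ a b c d : GL chevF4.Idx K, a * b * (c * d) = a * (b * c) * d from
        fun a b c d => by group, ← (commute_nG_A (1 : K) (t : K)).eq,
      show ∀ a b c d : GL chevF4.Idx K, a * (b * c) * d = a * b * (c * d) from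
        fun a b c d => by group, e2, e2]
    show torusHom _ = _
    rw [← simple_vals.1, ← simple_vals.2.2.2,
      show th K m (t : K) = ((Units.map (th K m).toMonoidHom t : Kˣ) : K) from rfl,
      hG_simple facts_chevF4 (i := 0) (by decide), hG_simple facts_chevF4 (i := 3) (by decide),
      coH_simple facts_chevF4 (i := 0) (by decide), coH_simple facts_chevF4 (i := 3) (by decide),
      ← map_mul]
    congr 1
    funext i
    fin_cases i <;> simp [tv, Pi.mulSingle_apply, Fin.ext_iff]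
  rw [e]
  exact h

omit [CharP K 2] in
theorem cartan_B : ∀ r : Fin chevF4.nroots, ∀ j : Fin chevF4.rank,
    ((j : ℕ) = 1 ∨ (j : ℕ) = 2) →
      chevF4.cartan j (wA 1 r : ℕ) = -chevF4.cartan j (r : ℕ) := by
  decide +kernel

theorem sO_tor_right (b : Kˣ) :
    sO 1 * tor m (1, b) = tor m (1, b⁻¹) * (sO 1 : GL chevF4.Idx K) := by
  refine torus_conj (orb 1) rfl fun r => ?_
  show ∏ j : Fin chevF4.rank, _ = ∏ j : Fin chevF4.rank, _
  refine Finset.prod_congr rfl fun j _ => ?_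
  simp only [map_one, map_inv, tv]
  by_cases h : (j : ℕ) = 1 ∨ (j : ℕ) = 2
  · have hc := cartan_B r j h
    rw [show (pWord facts_chevF4.{u} (orb 1) r : ℕ) = (wA 1 r : ℕ) from rfl, hc]
    rcases h with h | h <;> simp [h]
  · push Not at h
    simp only [h.1, h.2, if_false]
    split_ifs <;> simp

theorem tor_right_sq (hm : IsTheta K m) (b : Kˣ) : tor m (1, b ^ 2) ∈ twistedF4 K (2 ^ m) := by
  set h : GL chevF4.Idx K := tor m (1, b) with hh
  have hh1 : h ∈ T1 K m := ⟨_, rfl⟩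
  have hinv : tor m (1, b⁻¹) = h⁻¹ := by
    rw [hh, ← map_inv]; simp
  have hs : h * sO 1 = sO 1 * h⁻¹ := by
    have e := sO_tor_right (m := m) b
    rw [hinv, ← hh] at e
    rw [eq_mul_inv_iff_mul_eq, mul_assoc, e, mul_inv_cancel_left]
  have hy : ∀ t u, h * yB m t u * h⁻¹ ∈ twistedF4 K (2 ^ m) := fun t u =>
    fm_wA_le_G1 1 (torus_conj_fm hm hh1 (yB_mem_fm hm t u))
  have hz : ∀ t u, h * (sO 1 * yB m t u * sO 1) * h⁻¹ ∈ twistedF4 K (2 ^ m) := fun t u => by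
    obtain ⟨t', u', e⟩ := mem_fm_B
      (torus_conj_fm hm (Subgroup.inv_mem _ hh1) (yB_mem_fm hm t u))
    rw [inv_inv] at e
    have hs' : sO 1 * h⁻¹ = h * sO 1 := hs.symm
    have : h * (sO 1 * yB m t u * sO 1) * h⁻¹ = sO 1 * yB m t' u' * sO 1 := by
      rw [← e, show h * (sO 1 * yB m t u * sO 1) * h⁻¹ = (h * sO 1) * yB m t u * (sO 1 * h⁻¹) by
        group, hs, hs']
      have : h * sO 1 = sO 1 * h⁻¹ := hs
      rw [this]
      have hs2 : h⁻¹ * sO 1 = sO 1 * h := by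
        rw [inv_mul_eq_iff_eq_mul, ← mul_assoc, hs, inv_mul_cancel_right]
      calc sO 1 * h⁻¹ * yB m t u * (sO 1 * h⁻¹)
          = sO 1 * (h⁻¹ * yB m t u) * (sO 1 * h⁻¹) := by group
        _ = _ := by rw [← hs]; group
    rw [this]
    exact zB_mem_G1 _ _
  have hsG : h * sO 1 * h⁻¹ ∈ twistedF4 K (2 ^ m) := by
    rw [sO_one_eq (m := m), show ∀ a c d : GL chevF4.Idx K, h * (a * c * d) * h⁻¹ =
      (h * a * h⁻¹) * (h * c * h⁻¹) * (h * d * h⁻¹) from fun a c d => by group]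
    exact Subgroup.mul_mem _ (Subgroup.mul_mem _ (hy _ _) (hz _ _)) (hy _ _)
  have e : tor m (1, b ^ 2) = h * sO 1 * h⁻¹ * sO 1 := by
    rw [show tor m (1, b ^ 2) = h * h by rw [hh, ← map_mul]; simp [pow_two],
      mul_assoc h (sO 1), ← hs, mul_assoc h (h * sO 1), mul_assoc h (sO 1), sO_sq, mul_one]
  rw [e]
  exact Subgroup.mul_mem _ hsG (sO_mem_G1 1)

theorem split_fx {n : GL chevF4.Idx K} {p : Equiv.Perm (Fin chevF4.nroots)}
    (hn : IsMon facts_chevF4.{u} n p) (hp : Commute rho p) {g : GL chevF4.Idx K}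
    (hg : g ∈ chevF4.posUnipotent K) (hfx : g ∈ fx m) :
    ∃ a ∈ uPlus facts_chevF4 p, ∃ b ∈ uMinus facts_chevF4 p, a ∈ fx m ∧ b ∈ fx m ∧ g = a * b := by
  obtain ⟨a, ha, b, hb, rfl⟩ := posUnipotent_split facts_chevF4 p hg
  obtain ⟨a', ha', ea⟩ := exists_img_uGens (m := m)
    (Q := fun r => half chevF4 ≤ (p r : ℕ)) (fun r _ h => by
      rw [← Equiv.Perm.mul_apply, ← hp.eq, Equiv.Perm.mul_apply]
      exact (rho_pos _).2 h) ha
  obtain ⟨b', hb', eb⟩ := exists_img_uGens (m := m)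
    (Q := fun r => (p r : ℕ) < half chevF4) (fun r _ h => by
      rw [← Equiv.Perm.mul_apply, ← hp.eq, Equiv.Perm.mul_apply]
      exact not_le.1 fun h' => not_le.2 h ((rho_pos _).1 h')) hb
  obtain ⟨h1, h2⟩ := split_unique facts_chevF4 hn ha' ha hb' hb
    (eq_of_mem_fx hfx (ea.mul eb))
  subst h1 h2
  exact ⟨_, ha, _, hb, (mem_fx m).2 ea, (mem_fx m).2 eb, rfl⟩

theorem uMinus_wA_le {q : Equiv.Perm (Fin chevF4.nroots)} (hq : InW1 q) {a : Fin 2}
    (hmin : IsMin facts_chevF4.{0} (nodes a) q) :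
    uMinus facts_chevF4.{u} (wA a) (F := K) ≤ uMinus facts_chevF4 (q * wA a) := by
  refine (Subgroup.closure_le _).2 ?_
  rintro g ⟨r, t, h1, h2, rfl⟩
  refine Subgroup.subset_closure ⟨r, t, h1, ?_, rfl⟩
  show (q (wA a r) : ℕ) < half chevF4
  have h3 : half chevF4 ≤ (negF facts_chevF4.{0} (wA a r) : ℕ) :=
    (pos_negF_iff facts_chevF4.{0} _).2 h2
  have h4 : (wA a (negF facts_chevF4.{0} (wA a r)) : ℕ) < half chevF4 := by
    rw [weyl_negF _ (inW1_wA a).1, wA_sq_pt]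
    exact (neg_lt_half_iff facts_chevF4.{0} r.2).2 h1
  have h5 := isMin_pos hmin h3 h4
  rw [weyl_negF _ hq.1, pos_negF_iff] at h5
  exact h5

theorem fm_step_forward {ws : List (Fin 2)} {a : Fin 2}
    (hmin : IsMin facts_chevF4.{0} (nodes a) (pW ws)) {g : GL chevF4.Idx K}
    (hg : g ∈ fm K m (pW ws * wA a)) :
    ∃ g' ∈ fm K m (pW ws), ∃ y ∈ fm K m (wA a), g = sO a * g' * sO a * y := by
  obtain ⟨x, hx, b, hb, hxf, hbf, rfl⟩ := split_fx (isMon_sO a) (rho_wA a)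
    (uMinus_le_posUnipotent facts_chevF4 _ hg.1) hg.2
  refine ⟨sO a * x * sO a, ⟨?_, Subgroup.mul_mem _ (Subgroup.mul_mem _ (sO_mem_fx a) hxf)
    (sO_mem_fx a)⟩, b, ⟨hb, hbf⟩, by
      rw [show sO a * (sO a * x * sO a) * sO a = (sO a * sO a) * x * (sO a * sO a) by group, sO_sq,
        one_mul, mul_one]⟩
  have hxm : x ∈ uMinus facts_chevF4 (pW ws * wA a) :=
    (Subgroup.mul_mem_cancel_right _ (uMinus_wA_le (inW1_pW ws) hmin hb)).1 hg.1
  have hpos := conj_uPlus facts_chevF4 (isMon_sO a) hx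
  rw [sO_inv] at hpos
  refine mem_uMinus_of_conj facts_chevF4 (isMon_nW ws) hpos ?_
  have := conj_uMinus facts_chevF4 (isMon_mul facts_chevF4 (isMon_nW ws) (isMon_sO a)) hxm
  simpa [mul_assoc, sO_inv] using this

theorem fm_step_back {q : Equiv.Perm (Fin chevF4.nroots)} (hq : InW1 q) {a : Fin 2}
    (hmin : IsMin facts_chevF4.{0} (nodes a) q) {g' : GL chevF4.Idx K} (hg : g' ∈ fm K m q)
    {y : GL chevF4.Idx K} (hy : y ∈ fm K m (wA a)) :
    sO a * g' * sO a ∈ uPlus facts_chevF4 (wA a) ∧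
      sO a * g' * sO a * y ∈ fm K m (q * wA a) := by
  have key : ∀ r : Fin chevF4.nroots, half chevF4 ≤ (r : ℕ) → (q r : ℕ) < half chevF4 →
      half chevF4 ≤ (wA a r : ℕ) := fun r h1 h2 =>
    not_lt.1 fun h => not_le.2 h2 (isMin_pos hmin h1 h)
  have h1 := conj_uGens_le facts_chevF4 (isMon_sO a)
    (M := uPlus facts_chevF4 (wA a) ⊓ uMinus facts_chevF4 (q * wA a))
    (fun r h1 h2 v => ⟨Subgroup.subset_closure ⟨wA a r, v, key r h1 h2, by
        show half chevF4 ≤ _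
        rwa [wA_sq_pt], rfl⟩,
      Subgroup.subset_closure ⟨wA a r, v, key r h1 h2, by
        show (q (wA a (wA a r)) : ℕ) < half chevF4
        rwa [wA_sq_pt], rfl⟩⟩) hg.1
  rw [sO_inv] at h1
  exact ⟨h1.1, Subgroup.mul_mem _ h1.2 (uMinus_wA_le hq hmin hy.1), Subgroup.mul_mem _
    (Subgroup.mul_mem _ (Subgroup.mul_mem _ (sO_mem_fx a) hg.2) (sO_mem_fx a)) hy.2⟩

theorem fm_le_G1 {p : Equiv.Perm (Fin chevF4.nroots)} (hp : InW1 p) :
    fm K m p ≤ twistedF4 K (2 ^ m) := by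
  refine w1_induction (fun p => fm K m p ≤ twistedF4 K (2 ^ m)) (by rw [fm_one]; exact bot_le)
    (fun q a hq hmin ih g hg => ?_) hp
  obtain ⟨k, rfl⟩ := exists_wd hq
  obtain ⟨g', hg', y, hy, rfl⟩ := fm_step_forward hmin hg
  exact Subgroup.mul_mem _ (Subgroup.mul_mem _ (Subgroup.mul_mem _ (sO_mem_G1 a) (ih hg'))
    (sO_mem_G1 a)) (fm_wA_le_G1 a hy)

theorem U1_eq_fm : U1 K m = fm K m (pW (wd 15)) := by
  refine le_antisymm (inf_le_inf_right _ ?_) (fm_le_U1 _)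
  rw [posUnipotent_eq facts_chevF4, Subgroup.closure_le]
  rintro g ⟨r, t, h1, h2, rfl⟩
  exact Subgroup.subset_closure ⟨⟨r, h2⟩, t, h1, wd_longest ⟨r, h2⟩ h1, rfl⟩

theorem U1_le_G1 : U1 K m ≤ twistedF4 K (2 ^ m) := by
  rw [U1_eq_fm]; exact fm_le_G1 (inW1_pW _)

theorem borel_inf_fx {g : GL chevF4.Idx K} (hb : g ∈ chevF4.borelSubgroup K) (hg : g ∈ fx m) :
    ∃ u ∈ U1 K m, ∃ h ∈ T1 K m, g = u * h := by
  obtain ⟨v, hv, c, rfl⟩ := (mem_borel_iff facts_chevF4).1 hb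
  obtain ⟨v', hv', iv⟩ := exists_img_posU (m := m) hv
  obtain ⟨c₀, c₁, c₂, c₃, rfl⟩ := eq_tv c
  have ic := isImg_torus (m := m) c₀ c₁ c₂ c₃
  obtain ⟨h1, h2⟩ := posUnipotent_torus_unique facts_chevF4 hv' hv
    (eq_of_mem_fx hg (iv.mul ic))
  rw [h1] at iv
  rw [h2] at ic
  obtain ⟨p, hp⟩ := exists_tor ((mem_fx m).2 ic)
  exact ⟨v, ⟨hv, (mem_fx m).2 iv⟩, _, ⟨p, rfl⟩, by rw [hp]⟩

theorem exists_nf {g : GL chevF4.Idx K} (hg : g ∈ fx m) :
    ∃ u ∈ U1 K m, ∃ h ∈ T1 K m, ∃ k, ∃ x ∈ fm K m (pW (wd k)), g = u * h * nW (wd k) * x := by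
  obtain ⟨b, hb, w, x, hx, rfl⟩ := exists_normalForm facts_chevF4 (fx_le_group hg)
  obtain ⟨v, hv, c, rfl⟩ := (mem_borel_iff facts_chevF4).1 hb
  obtain ⟨v', hv', iv⟩ := exists_img_posU (m := m) hv
  obtain ⟨c₀, c₁, c₂, c₃, rfl⟩ := eq_tv c
  have ic := isImg_torus (m := m) c₀ c₁ c₂ c₃
  obtain ⟨x', hx', ix⟩ := exists_img_uMinus (m := m) hx
  have e := eq_of_mem_fx hg (((iv.mul ic).mul (isImg_nWord w)).mul ix)
  have hb' := Subgroup.mul_mem (chevF4.borelSubgroup K) (Subgroup.mem_sup_left hv')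
    (Subgroup.mem_sup_right (torusHom_mem facts_chevF4 (tv (Units.map (th K m).toMonoidHom c₃)
      (Units.map (th K m).toMonoidHom c₂) (Units.map (th K m).toMonoidHom c₁ ^ 2)
      (Units.map (th K m).toMonoidHom c₀ ^ 2))))
  have hmw : ∀ l, monPerm facts_chevF4.{u} (nWord facts_chevF4 l : GL chevF4.Idx K) =
      pWord facts_chevF4.{u} l := fun l => monPerm_eq facts_chevF4 (isMon_nWord facts_chevF4 l)
  have hu := normalForm_unique facts_chevF4 hb' hb (nWord_mem facts_chevF4 _)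
    (nWord_mem facts_chevF4 w) (by rw [hmw]; exact hx') (by rw [hmw]; exact hx) e
  obtain ⟨d, hd⟩ := (mem_diagonal_iff facts_chevF4).1 hu.1
  have hperm : pWord facts_chevF4.{0} w = pWord facts_chevF4.{0} (w.map sw) := by
    have h1 := isMon_mul facts_chevF4 (isMon_nWord facts_chevF4 (w.map sw) (F := K))
      (isMon_torus facts_chevF4 d)
    rw [hd, mul_inv_cancel_left, mul_one] at h1
    exact (isMon_unique facts_chevF4.{u} (isMon_nWord facts_chevF4 w) h1 :)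
  have hW : InW1 (pWord facts_chevF4.{0} w) := by
    refine ⟨pWord_mem _ _, ?_⟩
    show rho * _ = _
    rw [rho_pWord, ← hperm]
  obtain ⟨h1, h2⟩ := hu.2 (nWord_congr (K := K) hperm.symm)
  rw [h2] at ix
  have hbf := iv.mul ic
  rw [h1] at hbf
  obtain ⟨u, hu1, h, hh, e'⟩ := borel_inf_fx hb ((mem_fx m).2 hbf)
  obtain ⟨k, hk⟩ := exists_wd hW
  refine ⟨u, hu1, h, hh, k, x, ⟨?_, (mem_fx m).2 ix⟩, ?_⟩
  · rw [hk]; exact hx
  · rw [e', show (nW (wd k) : GL chevF4.Idx K) = nWord facts_chevF4 w from nWord_congr hk]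

section Finite

variable [Fintype K] (hK : Fintype.card K = 2 ^ (2 * m + 1))
include hK

theorem isTheta : IsTheta K m := fun t => by
  rw [th_apply, th_apply, ← pow_mul, ← pow_mul,
    show 2 ^ m * (2 * 2 ^ m) = 2 ^ (2 * m + 1) by ring, ← hK, FiniteField.pow_card]

omit [CharP K 2] in
theorem exists_sq (c : Kˣ) : ∃ d : Kˣ, c = d ^ 2 :=
  ⟨c ^ 2 ^ (2 * m), Units.ext (by
    rw [← pow_mul, ← pow_succ, ← hK, Units.val_pow_eq_pow_val, FiniteField.pow_card])⟩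

theorem T1_le_G1 : T1 K m ≤ twistedF4 K (2 ^ m) := by
  rintro g ⟨⟨a, b⟩, rfl⟩
  obtain ⟨d, rfl⟩ := exists_sq hK b
  rw [show ((a, d ^ 2) : Kˣ × Kˣ) = (a, 1) * (1, d ^ 2) by simp, map_mul]
  exact Subgroup.mul_mem _ (tor_left a) (tor_right_sq (isTheta hK) d)

theorem fx_eq : fx m = twistedF4 K (2 ^ m) := by
  refine le_antisymm (fun g hg => ?_) (G1_le_fx (isTheta hK))
  obtain ⟨u, hu, h, hh, k, x, hx, rfl⟩ := exists_nf hg
  exact Subgroup.mul_mem _ (Subgroup.mul_mem _ (Subgroup.mul_mem _ (U1_le_G1 hu) (T1_le_G1 hK hh))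
    (nW_mem_G1 _)) (fm_le_G1 (inW1_pW _) hx)

end Finite

end ReeF4

end Cfsg.Agent.Chev
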