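import Cfsg.Agent.Chev.ReeF4.Group

/-!
Intersections with the Borel and monomial subgroups, orders, and the `(B,N)`-pair of `²F₄`.
-/

set_option autoImplicit false
set_option maxRecDepth 100000
set_option maxHeartbeats 1000000

namespace Cfsg.Agent.Chev

open Cfsg.Lie
open scoped MatrixGroups

universe u

namespace ReeF4

theorem invCard_one {D : ChevalleyDatum} : invCard (1 : Equiv.Perm (Fin D.nroots)) = 0 := by
  rw [invCard_eq, Finset.card_eq_zero]
  exact Finset.filter_eq_empty_iff.2 fun r _ h => absurd h.2 (not_lt.2 h.1)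

theorem invCard_wA (a : Fin 2) : invCard (wA a) = 2 * (a + 1) := by
  have h := invCard_wd ⟨a + 1, by omega⟩
  rw [wd_small.2 a _ rfl, pW_single] at h
  rw [h]
  fin_cases a <;> rfl

theorem wA_comm_ne : wA 0 * wA 1 ≠ wA 1 * wA 0 := by decide +kernel

theorem wA_injective : Function.Injective wA := by
  intro a b e
  have h := congrArg invCard e
  rw [invCard_wA, invCard_wA] at h
  omega

variable {K : Type u} [Field K] [CharP K 2] {m : ℕ}

theorem T1_le_diagonal : T1 K m ≤ chevF4.diagonalSubgroup K := by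
  rintro g ⟨p, rfl⟩
  exact tor_mem_diagonal p

theorem diagonal_inf_fx (hm : IsTheta K m) : chevF4.diagonalSubgroup K ⊓ fx m = T1 K m := by
  refine le_antisymm (fun g hg => ?_) (le_inf T1_le_diagonal (T1_le_fx hm))
  obtain ⟨c, rfl⟩ := (mem_diagonal_iff facts_chevF4).1 hg.1
  obtain ⟨p, hp⟩ := exists_tor hg.2
  exact ⟨p, hp.symm⟩

theorem mem_borel_fx (hm : IsTheta K m) {g : GL chevF4.Idx K} :
    g ∈ chevF4.borelSubgroup K ⊓ fx m ↔ ∃ u ∈ U1 K m, ∃ h ∈ T1 K m, g = u * h := by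
  refine ⟨fun hg => borel_inf_fx hg.1 hg.2, ?_⟩
  rintro ⟨u, hu, h, hh, rfl⟩
  exact ⟨Subgroup.mul_mem _ (Subgroup.mem_sup_left hu.1)
    (Subgroup.mem_sup_right (T1_le_diagonal hh)), Subgroup.mul_mem _ hu.2 (T1_le_fx hm hh)⟩

theorem U1_le_borel_fx (hm : IsTheta K m) : U1 K m ≤ chevF4.borelSubgroup K ⊓ fx m := fun u hu =>
  (mem_borel_fx hm).2 ⟨u, hu, 1, Subgroup.one_mem _, (mul_one u).symm⟩

theorem T1_le_borel_fx (hm : IsTheta K m) : T1 K m ≤ chevF4.borelSubgroup K ⊓ fx m := fun h hh =>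
  (mem_borel_fx hm).2 ⟨1, Subgroup.one_mem _, h, hh, (one_mul h).symm⟩

theorem mem_monomial_fx (hm : IsTheta K m) {g : GL chevF4.Idx K} :
    g ∈ chevF4.monomialSubgroup K ⊓ fx m ↔ ∃ k, ∃ h ∈ T1 K m, g = nW (wd k) * h := by
  constructor
  · rintro ⟨hgN, hgf⟩
    obtain ⟨w, c, rfl⟩ := (mem_monomial_iff facts_chevF4).1 hgN
    obtain ⟨c₀, c₁, c₂, c₃, rfl⟩ := eq_tv c
    have e := eq_of_mem_fx hgf ((isImg_nWord w).mul (isImg_torus (m := m) c₀ c₁ c₂ c₃))
    have h1 := isMon_mul facts_chevF4.{u} (isMon_nWord facts_chevF4 (w.map sw) (F := K))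
      (isMon_torus facts_chevF4 (tv (Units.map (th K m).toMonoidHom c₃)
        (Units.map (th K m).toMonoidHom c₂) (Units.map (th K m).toMonoidHom c₁ ^ 2)
        (Units.map (th K m).toMonoidHom c₀ ^ 2)))
    have h2 := isMon_mul facts_chevF4.{u} (isMon_nWord facts_chevF4 w (F := K))
      (isMon_torus facts_chevF4 (tv c₀ c₁ c₂ c₃))
    rw [e] at h1
    rw [mul_one] at h1 h2
    have hperm : pWord facts_chevF4.{0} (w.map sw) = pWord facts_chevF4.{0} w :=
      (isMon_unique facts_chevF4.{u} h1 h2 :)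
    have hW : InW1 (pWord facts_chevF4.{0} w) := by
      refine ⟨pWord_mem _ _, ?_⟩
      show rho * _ = _
      rw [rho_pWord, hperm]
    have hn := nWord_mem_fx (K := K) (m := m) hW.2
    obtain ⟨k, hk⟩ := exists_wd hW
    have hc : (torusHom (tv c₀ c₁ c₂ c₃) : GL chevF4.Idx K) ∈ fx m :=
      (Subgroup.mul_mem_cancel_left _ hn).1 hgf
    obtain ⟨p, hp⟩ := exists_tor hc
    exact ⟨k, _, ⟨p, rfl⟩, by
      rw [show (nW (wd k) : GL chevF4.Idx K) = nWord facts_chevF4 w from nWord_congr hk, hp]⟩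
  · rintro ⟨k, h, hh, rfl⟩
    exact ⟨Subgroup.mul_mem _ (nW_mem_monomial _) (Subgroup.mem_sup_left (T1_le_diagonal hh)),
      Subgroup.mul_mem _ (nW_mem_fx _) (T1_le_fx hm hh)⟩

theorem nW_mem_monomial_fx (ws : List (Fin 2)) :
    (nW ws : GL chevF4.Idx K) ∈ chevF4.monomialSubgroup K ⊓ fx m :=
  ⟨nW_mem_monomial ws, nW_mem_fx ws⟩

omit [CharP K 2] in
theorem sO_mem_monomial (a : Fin 2) : (sO a : GL chevF4.Idx K) ∈ chevF4.monomialSubgroup K :=
  nWord_mem facts_chevF4 _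

theorem torus_nW (hm : IsTheta K m) {h : GL chevF4.Idx K} (hh : h ∈ T1 K m) (ws : List (Fin 2)) :
    ∃ h' ∈ T1 K m, h * nW ws = nW ws * h' := by
  obtain ⟨c, rfl⟩ := (mem_diagonal_iff facts_chevF4).1 (T1_le_diagonal hh)
  obtain ⟨c', hc'⟩ := torus_nWord facts_chevF4 (flat ws) c (F := K)
  refine ⟨torusHom c', (diagonal_inf_fx hm).le ⟨torusHom_mem facts_chevF4 c', ?_⟩, hc'⟩
  refine (Subgroup.mul_mem_cancel_left _ (nW_mem_fx (m := m) ws)).1 ?_
  show nWord facts_chevF4 (flat ws) * torusHom c' ∈ fx m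
  rw [← hc']
  exact Subgroup.mul_mem _ (T1_le_fx hm hh) (nW_mem_fx _)

theorem conj_fm_mem_U1 (hm : IsTheta K m) (ws : List (Fin 2)) {a : Fin 2}
    (hmin : IsMin facts_chevF4.{0} (nodes a) (pW ws)⁻¹) {y : GL chevF4.Idx K}
    (hy : y ∈ fm K m (wA a)) : (nW ws)⁻¹ * y * nW ws ∈ U1 K m := by
  refine ⟨?_, Subgroup.mul_mem _ (Subgroup.mul_mem _ (Subgroup.inv_mem _ (nW_mem_fx ws)) hy.2)
    (nW_mem_fx ws)⟩
  have h := conj_uGens_le facts_chevF4 (isMon_inv' facts_chevF4 (isMon_nW ws))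
    (M := chevF4.posUnipotent K) (fun r h1 h2 v => mem_posUnipotent_of facts_chevF4
      ((pW ws)⁻¹ r).2 (isMin_pos hmin h1 h2) v) hy.1
  rwa [inv_inv] at h

/-- The elements of the group of an orbit which are not in the Borel subgroup. -/
theorem rank_one_cell {a : Fin 2} {y : GL chevF4.Idx K} (hy : y ∈ fm K m (wA a)) (h1 : y ≠ 1) :
    ∃ u ∈ U1 K m, ∃ h ∈ T1 K m, ∃ x ∈ fm K m (wA a),
      sO a * y * sO a = u * h * sO a * x := by
  set J : Set ℕ := {j | ∃ i ∈ orb a, (i : ℕ) = j}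
  have hJ : idxSet chevF4 J = nodes a := by
    ext i
    rw [mem_idxSet, mem_nodes]
    exact ⟨fun ⟨j, hj, e⟩ => Fin.ext e ▸ hj, fun h => ⟨i, h, rfl⟩⟩
  obtain ⟨u, hu, h, hh, k, x, hx, e⟩ := exists_nf (m := m) (g := sO a * y * sO a)
    (Subgroup.mul_mem _ (Subgroup.mul_mem _ (sO_mem_fx a) hy.2) (sO_mem_fx a))
  have hBP := borel_le_parabolic J (D := chevF4) (F := K)
  have hs : (sO a : GL chevF4.Idx K) ∈ chevF4.parabolicSubgroup K J :=
    Subgroup.list_prod_mem _ fun g hg => by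
      obtain ⟨i, hi, rfl⟩ := List.mem_map.1 hg
      exact nS_mem_parabolic facts_chevF4 J (by rw [hJ, mem_nodes]; exact hi)
  have hz : sO a * y * sO a ∈ chevF4.parabolicSubgroup K J :=
    Subgroup.mul_mem _ (Subgroup.mul_mem _ hs (hBP (uMinus_le_borel facts_chevF4 _ hy.1))) hs
  have hn : (nWord facts_chevF4 (flat (wd k)) : GL chevF4.Idx K) ∈
      chevF4.parabolicSubgroup K J := by
    show nW (wd k) ∈ _
    rw [show (nW (wd k) : GL chevF4.Idx K) = (u * h)⁻¹ * (sO a * y * sO a) * x⁻¹ by rw [e]; group]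
    exact Subgroup.mul_mem _ (Subgroup.mul_mem _ (Subgroup.inv_mem _ (Subgroup.mul_mem _
      (hBP (Subgroup.mem_sup_left hu.1))
      (hBP (Subgroup.mem_sup_right (T1_le_diagonal hh))))) hz)
      (Subgroup.inv_mem _ (hBP (uMinus_le_borel facts_chevF4 _ hx.1)))
  have hW := pWord_mem_of_nWord_mem facts_chevF4 J hn
  rw [hJ] at hW
  rcases rank_one (inW1_pW (wd k)) hW with hk | hk
  · exfalso
    apply h1
    rw [hk, fm_one, Subgroup.mem_bot] at hx
    rw [hx, nW_congr (vs := []) (hk.trans pW_nil.symm), nW_nil, mul_one, mul_one] at e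
    have hV := conj_uMinus facts_chevF4 (isMon_sO a) hy.1
    rw [sO_inv] at hV
    have hB : sO a * y * sO a ∈ chevF4.borelSubgroup K := by
      rw [e]
      exact Subgroup.mul_mem _ (Subgroup.mem_sup_left hu.1)
        (Subgroup.mem_sup_right (T1_le_diagonal hh))
    have hbot := (borel_inf_negUnipotent facts_chevF4).le ⟨hB, hV⟩
    rw [Subgroup.mem_bot] at hbot
    have e2 : y = sO a * (sO a * y * sO a) * sO a := by
      rw [show sO a * (sO a * y * sO a) * sO a = (sO a * sO a) * y * (sO a * sO a) by group, sO_sq,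
        one_mul, mul_one]
    rw [e2, hbot, mul_one, sO_sq]
  · refine ⟨u, hu, h, hh, x, hk ▸ hx, ?_⟩
    rw [e, nW_congr (vs := [a]) (hk.trans (pW_single a).symm), nW_single]

/-- The basic step of the Bruhat decomposition. -/
theorem step (hm : IsTheta K m) (a : Fin 2) (ws : List (Fin 2)) {b : GL chevF4.Idx K}
    (hb : b ∈ chevF4.borelSubgroup K ⊓ fx m) :
    ∃ b₁ ∈ chevF4.borelSubgroup K ⊓ fx m, ∃ b₂ ∈ chevF4.borelSubgroup K ⊓ fx m,
      sO a * b * nW ws = b₁ * nW (a :: ws) * b₂ ∨ sO a * b * nW ws = b₁ * nW ws * b₂ := by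
  obtain ⟨u, hu, h, hh, rfl⟩ := (mem_borel_fx hm).1 hb
  obtain ⟨h', hh', eh⟩ := torus_nW hm hh ws
  obtain ⟨x, hx, y, hy, hxf, hyf, rfl⟩ := split_fx (isMon_sO a) (rho_wA a) hu.1 hu.2
  have hX : sO a * x * sO a ∈ chevF4.borelSubgroup K ⊓ fx m := by
    have h1 := conj_uPlus facts_chevF4 (isMon_sO a) hx
    rw [sO_inv] at h1
    exact U1_le_borel_fx hm
      ⟨h1, Subgroup.mul_mem _ (Subgroup.mul_mem _ (sO_mem_fx a) hxf) (sO_mem_fx a)⟩
  suffices H : ∃ b₁ ∈ chevF4.borelSubgroup K ⊓ fx m, ∃ b₂ ∈ chevF4.borelSubgroup K ⊓ fx m,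
      sO a * y * nW ws = b₁ * nW (a :: ws) * b₂ ∨ sO a * y * nW ws = b₁ * nW ws * b₂ by
    obtain ⟨b₁, hb₁, b₂, hb₂, H⟩ := H
    have e2 : sO a * (x * y * h) * nW ws = sO a * x * sO a * (sO a * y * nW ws) * h' := by
      rw [show sO a * x * sO a * (sO a * y * nW ws) * h' =
        sO a * x * (sO a * sO a) * y * (nW ws * h') by group, sO_sq, ← eh]
      group
    refine ⟨_, Subgroup.mul_mem _ hX hb₁, b₂ * h',
      Subgroup.mul_mem _ hb₂ (T1_le_borel_fx hm hh'), ?_⟩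
    rcases H with H | H
    · left; rw [e2, H]; group
    · right; rw [e2, H]; group
  have hy' : y ∈ fm K m (wA a) := ⟨hy, hyf⟩
  rcases isMin_or a (inW1_pW ws).inv with hmin | hmin
  · refine ⟨1, Subgroup.one_mem _, _, U1_le_borel_fx hm (conj_fm_mem_U1 hm ws hmin hy'), Or.inl ?_⟩
    rw [nW_cons]
    group
  by_cases h1 : y = 1
  · subst h1
    exact ⟨1, Subgroup.one_mem _, 1, Subgroup.one_mem _, Or.inl (by rw [nW_cons]; group)⟩
  obtain ⟨v, hv, t, ht, z, hz, e⟩ := rank_one_cell hy' h1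
  have hmin' : IsMin facts_chevF4.{0} (nodes a) (pW (a :: ws))⁻¹ := by
    rw [pW_cons, mul_inv_rev, wA_inv]
    exact hmin
  have hz' := U1_le_borel_fx hm (conj_fm_mem_U1 hm (a :: ws) hmin' hz)
  refine ⟨v * t, (mem_borel_fx hm).2 ⟨v, hv, t, ht, rfl⟩, _, hz', Or.inr ?_⟩
  have e1 : sO a * y * nW ws = sO a * y * sO a * nW (a :: ws) := by
    rw [nW_cons, show sO a * y * sO a * (sO a * nW ws) = sO a * y * (sO a * sO a) * nW ws by group,
      sO_sq, mul_one]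
  have e3 : (nW ws : GL chevF4.Idx K) = sO a * nW (a :: ws) := by
    rw [nW_cons, ← mul_assoc, sO_sq, one_mul]
  rw [e1, e]
  conv_rhs => rw [e3]
  group

theorem conj_sO_not_mem {a : Fin 2} {y : GL chevF4.Idx K} (hy : y ∈ fm K m (wA a)) (h1 : y ≠ 1) :
    sO a * y * sO a ∉ chevF4.borelSubgroup K := by
  intro hB
  have hV := conj_uMinus facts_chevF4 (isMon_sO a) hy.1
  rw [sO_inv] at hV
  have hbot := (borel_inf_negUnipotent facts_chevF4).le ⟨hB, hV⟩
  rw [Subgroup.mem_bot] at hbot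
  refine h1 ?_
  have e : y = sO a * (sO a * y * sO a) * sO a := by
    rw [show sO a * (sO a * y * sO a) * sO a = (sO a * sO a) * y * (sO a * sO a) by group, sO_sq,
      one_mul, mul_one]
  rw [e, hbot, mul_one, sO_sq]

theorem exists_fm_ne_one (hm : IsTheta K m) (a : Fin 2) :
    ∃ y ∈ fm K m (wA a), y ≠ (1 : GL chevF4.Idx K) := by
  obtain rfl | rfl : a = 0 ∨ a = 1 := by omega
  · refine ⟨_, yA_mem_fm hm 1, fun e => ?_⟩
    rw [← W2_zero (K := K)] at e
    exact one_ne_zero (W2_injective e).2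
  · refine ⟨_, yB_mem_fm hm 1 0, fun e => ?_⟩
    rw [← W4_zero (K := K)] at e
    exact one_ne_zero (W4_injective e).2.1

theorem borel_monomial_fx (hm : IsTheta K m) {g : GL chevF4.Idx K}
    (hb : g ∈ chevF4.borelSubgroup K ⊓ fx m) (hn : g ∈ chevF4.monomialSubgroup K) :
    g ∈ T1 K m :=
  (diagonal_inf_fx hm).le ⟨(borel_inf_monomial facts_chevF4).le ⟨hb.1, hn⟩, hb.2⟩

theorem isMon_T1 {g : GL chevF4.Idx K} (hg : g ∈ T1 K m) : IsMon facts_chevF4.{u} g 1 := by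
  obtain ⟨p, rfl⟩ := hg
  exact isMon_torus facts_chevF4 _

section Finite

variable [Fintype K] (hK : Fintype.card K = 2 ^ (2 * m + 1))
include hK

theorem G1_inf_borel : chevF4.borelSubgroup K ⊓ twistedF4 K (2 ^ m) =
    chevF4.borelSubgroup K ⊓ fx m := by rw [fx_eq hK]

/-- The fundamental elements in the group. -/
def sG (_hK : Fintype.card K = 2 ^ (2 * m + 1)) (a : Fin 2) : ↥(twistedF4 K (2 ^ m)) :=
  ⟨sO a, sO_mem_G1 a⟩

/-- The `(B,N)`-pair of `²F₄`. -/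
noncomputable def bnPair : Cfsg.BNPair ↥(twistedF4 K (2 ^ m)) where
  B := (chevF4.borelSubgroup K ⊓ twistedF4 K (2 ^ m)).subgroupOf (twistedF4 K (2 ^ m))
  N := (chevF4.monomialSubgroup K ⊓ twistedF4 K (2 ^ m)).subgroupOf (twistedF4 K (2 ^ m))
  S := Set.range (sG hK)
  sup_eq_top := by
    rw [eq_top_iff]
    rintro ⟨g, hg⟩ -
    obtain ⟨u, hu, h, hh, k, x, hx, e⟩ := exists_nf (G1_le_fx (isTheta hK) hg)
    have e' : (⟨g, hg⟩ : ↥(twistedF4 K (2 ^ m))) =
        ⟨u * h, Subgroup.mul_mem _ (U1_le_G1 hu) (T1_le_G1 hK hh)⟩ *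
          ⟨nW (wd k), nW_mem_G1 _⟩ * ⟨x, U1_le_G1 (fm_le_U1 _ hx)⟩ := Subtype.ext e
    rw [e']
    refine Subgroup.mul_mem _ (Subgroup.mul_mem _ (Subgroup.mem_sup_left ?_)
      (Subgroup.mem_sup_right ?_)) (Subgroup.mem_sup_left ?_)
    · rw [Subgroup.mem_subgroupOf, G1_inf_borel hK]
      exact (mem_borel_fx (isTheta hK)).2 ⟨u, hu, h, hh, rfl⟩
    · exact Subgroup.mem_subgroupOf.2 ⟨nW_mem_monomial _, nW_mem_G1 _⟩
    · rw [Subgroup.mem_subgroupOf, G1_inf_borel hK]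
      exact U1_le_borel_fx (isTheta hK) (fm_le_U1 _ hx)
  conj_mem := by
    intro n hn t ht
    have ht1 := borel_monomial_fx (isTheta hK) ((G1_inf_borel hK).le (Subgroup.mem_subgroupOf.1 ht.1))
      (Subgroup.mem_subgroupOf.1 ht.2).1
    obtain ⟨c, hc⟩ := (mem_diagonal_iff facts_chevF4).1 (T1_le_diagonal ht1)
    obtain ⟨w, d, hwd⟩ := (mem_monomial_iff facts_chevF4).1 (Subgroup.mem_subgroupOf.1 hn).1
    obtain ⟨c', hc'⟩ := nWord_torus facts_chevF4 w c (F := K)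
    rw [Subgroup.mem_subgroupOf]
    refine ⟨Subgroup.mem_sup_right ?_, (n * t * n⁻¹).2⟩
    simp only [Subgroup.coe_mul, Subgroup.coe_inv, hwd, ← hc]
    rw [mul_assoc (nWord facts_chevF4 w), ← map_mul, mul_comm d, map_mul, ← mul_assoc, hc',
      show ∀ a b c : GL chevF4.Idx K, a * b * c * (b * c)⁻¹ = a from fun a b c => by group]
    exact torusHom_mem facts_chevF4 c'
  subset := by
    rintro g ⟨a, rfl⟩
    exact Subgroup.mem_subgroupOf.2 ⟨sO_mem_monomial a, sO_mem_G1 a⟩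
  sq_mem := by
    rintro g ⟨a, rfl⟩
    have : sG hK a * sG hK a = 1 := Subtype.ext (sO_sq a)
    rw [this]
    exact Subgroup.one_mem _
  inj := by
    rintro g ⟨a, rfl⟩ g' ⟨b, rfl⟩ h
    have hsN : ∀ c, (sO c : GL chevF4.Idx K) ∈ chevF4.monomialSubgroup K := sO_mem_monomial
    have hd := isMon_T1 (borel_monomial_fx (isTheta hK)
      ((G1_inf_borel hK).le (Subgroup.mem_subgroupOf.1 h))
      (Subgroup.mul_mem _ (Subgroup.inv_mem _ (hsN a)) (hsN b)))
    have h1 := isMon_mul facts_chevF4.{u} (isMon_sO a) hd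
    change IsMon facts_chevF4.{u} (sO a * ((sO a)⁻¹ * sO b)) _ at h1
    rw [mul_inv_cancel_left, mul_one] at h1
    rw [wA_injective (isMon_unique facts_chevF4.{u} h1 (isMon_sO b))]
  closure_sup := by
    refine le_antisymm (sup_le ((Subgroup.closure_le _).2 ?_) inf_le_right) ?_
    · rintro g ⟨a, rfl⟩
      exact Subgroup.mem_subgroupOf.2 ⟨sO_mem_monomial a, sO_mem_G1 a⟩
    · rintro ⟨g, hg⟩ hN
      obtain ⟨k, h, hh, e⟩ := (mem_monomial_fx (isTheta hK)).1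
        ⟨(Subgroup.mem_subgroupOf.1 hN).1, G1_le_fx (isTheta hK) hg⟩
      have hg' : (⟨g, hg⟩ : ↥(twistedF4 K (2 ^ m))) =
          ((wd k).map (sG hK)).prod * ⟨h, T1_le_G1 hK hh⟩ := by
        refine Subtype.ext (e.trans ?_)
        rw [Subgroup.coe_mul]
        congr 1
        clear e
        induction (wd k) with
        | nil => rfl
        | cons a ws ih =>
          rw [List.map_cons, List.prod_cons, Subgroup.coe_mul, ← ih, nW_cons]; rfl
      rw [hg']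
      refine Subgroup.mul_mem _ (Subgroup.mem_sup_left (Subgroup.list_prod_mem _ fun x hx => ?_))
        (Subgroup.mem_sup_right ⟨?_, ?_⟩)
      · obtain ⟨a, -, rfl⟩ := List.mem_map.1 hx
        exact Subgroup.subset_closure ⟨a, rfl⟩
      · exact Subgroup.mem_subgroupOf.2
          ((G1_inf_borel hK).ge (T1_le_borel_fx (isTheta hK) hh))
      · exact Subgroup.mem_subgroupOf.2
          ⟨Subgroup.mem_sup_left (T1_le_diagonal hh), T1_le_G1 hK hh⟩
  mul_mem_union := by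
    rintro s ⟨a, rfl⟩ n hn b hb
    obtain ⟨k, h, hh, e⟩ := (mem_monomial_fx (isTheta hK)).1
      ⟨(Subgroup.mem_subgroupOf.1 hn).1, G1_le_fx (isTheta hK) n.2⟩
    obtain ⟨b₁, hb₁, b₂, hb₂, H⟩ := step (isTheta hK) a (wd k)
      ((G1_inf_borel hK).le (Subgroup.mem_subgroupOf.1 hb))
    have hh' : h⁻¹ * (b₂ * h) ∈ chevF4.borelSubgroup K ⊓ fx m :=
      Subgroup.mul_mem _ (Subgroup.inv_mem _ (T1_le_borel_fx (isTheta hK) hh))
        (Subgroup.mul_mem _ hb₂ (T1_le_borel_fx (isTheta hK) hh))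
    rw [← G1_inf_borel hK] at hb₁ hh'
    rcases H with H | H
    · refine Or.inl (DoubleCoset.mem_doubleCoset.2 ⟨⟨b₁, hb₁.2⟩,
        Subgroup.mem_subgroupOf.2 hb₁, ⟨h⁻¹ * (b₂ * h), hh'.2⟩,
        Subgroup.mem_subgroupOf.2 hh', Subtype.ext ?_⟩)
      show (sO a : GL chevF4.Idx K) * (b : GL chevF4.Idx K) * (n : GL chevF4.Idx K) =
        b₁ * (sO a * (n : GL chevF4.Idx K)) * (h⁻¹ * (b₂ * h))
      rw [e, ← mul_assoc (sO a * (b : GL chevF4.Idx K)), H, nW_cons]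
      group
    · refine Or.inr (DoubleCoset.mem_doubleCoset.2 ⟨⟨b₁, hb₁.2⟩,
        Subgroup.mem_subgroupOf.2 hb₁, ⟨h⁻¹ * (b₂ * h), hh'.2⟩,
        Subgroup.mem_subgroupOf.2 hh', Subtype.ext ?_⟩)
      show (sO a : GL chevF4.Idx K) * (b : GL chevF4.Idx K) * (n : GL chevF4.Idx K) =
        b₁ * (n : GL chevF4.Idx K) * (h⁻¹ * (b₂ * h))
      rw [e, ← mul_assoc (sO a * (b : GL chevF4.Idx K)), H]
      group
  conj_ne := by
    rintro s ⟨a, rfl⟩ h
    obtain ⟨y, hy, hy1⟩ := exists_fm_ne_one (isTheta hK) a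
    have hyB := (G1_inf_borel hK).ge (U1_le_borel_fx (isTheta hK) (fm_le_U1 _ hy))
    have := h.le ⟨⟨y, hyB.2⟩, Subgroup.mem_subgroupOf.2 hyB, rfl⟩
    exact conj_sO_not_mem hy hy1 (Subgroup.mem_subgroupOf.1 this).1

theorem card_fm_wA (a : Fin 2) :
    Nat.card ↥(fm K m (wA a)) = Fintype.card K ^ ((a : ℕ) + 1) := by
  have hm := isTheta hK
  obtain rfl | rfl : a = 0 ∨ a = 1 := by omega
  · rw [← Nat.card_congr (Equiv.ofBijective
      (fun t : K => (⟨yA m t, yA_mem_fm hm t⟩ : ↥(fm K m (wA 0)))) ⟨fun t t' e => ?_, fun g => ?_⟩)]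
    · simp [Nat.card_eq_fintype_card]
    · exact (W2_injective (congrArg Subtype.val e)).2
    · obtain ⟨t, ht⟩ := mem_fm_A g.2
      exact ⟨t, Subtype.ext ht.symm⟩
  · rw [← Nat.card_congr (Equiv.ofBijective
      (fun p : K × K => (⟨yB m p.1 p.2, yB_mem_fm hm p.1 p.2⟩ : ↥(fm K m (wA 1))))
      ⟨fun p p' e => ?_, fun g => ?_⟩)]
    · simp [Nat.card_eq_fintype_card, pow_two]
    · obtain ⟨t, u⟩ := p
      obtain ⟨t', u'⟩ := p'
      obtain ⟨-, h2, h3, -⟩ := W4_injective (congrArg Subtype.val e)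
      simp only at h2 h3
      subst h2
      exact Prod.ext rfl (add_left_cancel h3)
    · obtain ⟨t, u, htu⟩ := mem_fm_B g.2
      exact ⟨(t, u), Subtype.ext htu.symm⟩

theorem card_fm {p : Equiv.Perm (Fin chevF4.nroots)} (hp : InW1 p) :
    Nat.card ↥(fm K m p) ^ 2 = Fintype.card K ^ invCard p := by
  refine w1_induction (fun p => Nat.card ↥(fm K m p) ^ 2 = Fintype.card K ^ invCard p) ?_
    (fun q a hq hmin ih => ?_) hp
  · rw [fm_one, Subgroup.card_bot, one_pow, invCard_one, pow_zero]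
  · obtain ⟨k, rfl⟩ := exists_wd hq
    rw [invCard_min_split facts_chevF4.{0} hmin (wA_mem_wJ a), pow_add, ← ih, invCard_wA,
      mul_comm 2 ((a : ℕ) + 1), pow_mul, ← card_fm_wA hK a, ← mul_pow, ← Nat.card_prod]
    refine congrArg (· ^ 2) (Nat.card_congr (Equiv.ofBijective
      (fun x : ↥(fm K m (pW (wd k))) × ↥(fm K m (wA a)) =>
        (⟨sO a * (x.1 : GL chevF4.Idx K) * sO a * (x.2 : GL chevF4.Idx K), (fm_step_back hq hmin x.1.2 x.2.2).2⟩ :
          ↥(fm K m (pW (wd k) * wA a)))) ⟨?_, ?_⟩)).symm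
    · rintro ⟨⟨x, hx⟩, y, hy⟩ ⟨⟨x', hx'⟩, y', hy'⟩ e
      obtain ⟨h1, h2⟩ := split_unique facts_chevF4 (isMon_sO a) (fm_step_back hq hmin hx hy).1
        (fm_step_back hq hmin hx' hy').1 hy.1 hy'.1 (congrArg Subtype.val e)
      simp only [mul_left_inj, mul_right_inj] at h1
      subst h1 h2
      rfl
    · rintro ⟨g, hg⟩
      obtain ⟨g', hg', y, hy, e⟩ := fm_step_forward hmin hg
      exact ⟨(⟨g', hg'⟩, ⟨y, hy⟩), Subtype.ext e.symm⟩

theorem card_fm_wd (k : Fin 16) :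
    Nat.card ↥(fm K m (pW (wd k))) = Fintype.card K ^ nN k := by
  have h := card_fm hK (inW1_pW (wd k))
  rw [invCard_wd, mul_comm, pow_mul] at h
  exact Nat.pow_left_injective two_ne_zero h

theorem card_U1 : Nat.card ↥(U1 K m) = Fintype.card K ^ 12 := by
  rw [U1_eq_fm, card_fm_wd hK]
  rfl

omit hK in
theorem card_T1 : Nat.card ↥(T1 K m) = (Fintype.card K - 1) ^ 2 := by
  classical
  show Nat.card ↥(tor (K := K) m).range = _
  rw [← Nat.card_congr (Equiv.ofBijective (tor (K := K) m).rangeRestrict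
    ⟨(tor (K := K) m).rangeRestrict_injective_iff.2 tor_injective,
      (tor (K := K) m).rangeRestrict_surjective⟩)]
  simp [Nat.card_eq_fintype_card, Fintype.card_units, pow_two]

theorem card_G1 : Nat.card ↥(twistedF4 K (2 ^ m)) =
    Fintype.card K ^ 12 * (Fintype.card K - 1) ^ 2 *
      ∑ k : Fin 16, Fintype.card K ^ nN k := by
  classical
  have hm := isTheta hK
  rw [← fx_eq hK]
  let f : (Σ k : Fin 16, (↥(U1 K m) × ↥(T1 K m)) × ↥(fm K m (pW (wd k)))) → ↥(fx (K := K) m) :=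
    fun s => ⟨(s.2.1.1 : GL chevF4.Idx K) * (s.2.1.2 : GL chevF4.Idx K) * nW (wd s.1) *
      (s.2.2 : GL chevF4.Idx K),
      Subgroup.mul_mem _ (Subgroup.mul_mem _ (Subgroup.mul_mem _ s.2.1.1.2.2
        (T1_le_fx hm s.2.1.2.2)) (nW_mem_fx _)) s.2.2.2.2⟩
  have hf : Function.Bijective f := by
    constructor
    · rintro ⟨k, ⟨⟨u, hu⟩, ⟨h, hh⟩⟩, ⟨x, hx⟩⟩ ⟨k', ⟨⟨u', hu'⟩, ⟨h', hh'⟩⟩, ⟨x', hx'⟩⟩ e
      have e' : u * h * nW (wd k) * x = u' * h' * nW (wd k') * x' := congrArg Subtype.val e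
      have hn := normalForm_unique facts_chevF4
        (Subgroup.mul_mem _ (Subgroup.mem_sup_left hu.1)
          (Subgroup.mem_sup_right (T1_le_diagonal hh)))
        (Subgroup.mul_mem _ (Subgroup.mem_sup_left hu'.1)
          (Subgroup.mem_sup_right (T1_le_diagonal hh')))
        (nW_mem_monomial (wd k)) (nW_mem_monomial (wd k'))
        (by rw [monPerm_nW]; exact hx.1) (by rw [monPerm_nW]; exact hx'.1) e'
      obtain ⟨c, hc⟩ := (mem_diagonal_iff facts_chevF4).1 hn.1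
      have hp : pW (wd k') = pW (wd k) := by
        have h1 := isMon_mul facts_chevF4.{u} (isMon_nW (K := K) (wd k))
          (isMon_torus facts_chevF4 c)
        rw [hc, mul_inv_cancel_left, mul_one] at h1
        exact isMon_unique facts_chevF4.{u} (isMon_nW _) h1
      obtain rfl := wd_injective hp
      obtain ⟨h1, rfl⟩ := hn.2 rfl
      obtain ⟨c, rfl⟩ := (mem_diagonal_iff facts_chevF4).1 (T1_le_diagonal hh)
      obtain ⟨c', rfl⟩ := (mem_diagonal_iff facts_chevF4).1 (T1_le_diagonal hh')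
      obtain ⟨rfl, h2⟩ := posUnipotent_torus_unique facts_chevF4 hu.1 hu'.1 h1
      have : (⟨torusHom c, hh⟩ : ↥(T1 K m)) = ⟨torusHom c', hh'⟩ := Subtype.ext h2
      rw [this]
    · rintro ⟨g, hg⟩
      obtain ⟨u, hu, h, hh, k, x, hx, e⟩ := exists_nf hg
      exact ⟨⟨k, (⟨u, hu⟩, ⟨h, hh⟩), ⟨x, hx⟩⟩, Subtype.ext e.symm⟩
  haveI : Finite (GL chevF4.Idx K) := inferInstance
  rw [← Nat.card_congr (Equiv.ofBijective f hf), Nat.card_sigma, Finset.mul_sum]
  refine Finset.sum_congr rfl fun k _ => ?_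
  rw [Nat.card_prod, Nat.card_prod, card_fm_wd hK, card_U1 hK, card_T1]

end Finite

end ReeF4

end Cfsg.Agent.Chev
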