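import Cfsg.Agent.Chev.ReeF4.Unip
import Cfsg.Agent.Chev.Special.Graph
import Mathlib.Algebra.CharP.Frobenius

/-!
The endomorphism of `F₄` in characteristic two defining `²F₄`, and its effect on `U`, `H` and `N`.
-/

set_option autoImplicit false
set_option maxRecDepth 100000

namespace Cfsg.Agent.Chev

open Cfsg.Lie
open scoped MatrixGroups

universe u

namespace ReeF4

theorem rho_invol : ∀ r, f4Spec.ρ (f4Spec.ρ r) = r := by decide +kernel

/-- The symmetry of the roots. -/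
def rho : Equiv.Perm (Fin chevF4.nroots) := Function.Involutive.toPerm f4Spec.ρ rho_invol

theorem rho_apply (r : Fin chevF4.nroots) : rho r = f4Spec.ρ r := rfl

/-- The node exchanged with a node. -/
def sw (i : Fin chevF4.rank) : Fin chevF4.rank := ([3, 2, 1, 0] : List (Fin 4)).getD i 0

theorem rho_tables : ∀ r : Fin chevF4.nroots,
    (f4Spec.lam r = 1 ∨ f4Spec.lam r = 2) ∧
    (∀ s : Fin chevF4.nroots, (s : ℕ) = chevF4.neg r →
      (f4Spec.ρ s : ℕ) = chevF4.neg (f4Spec.ρ r) ∧ f4Spec.lam s = f4Spec.lam r) := by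
  decide +kernel

theorem rho_values :
    ([33, 24, 27, 25, 28, 30] : List (Fin 48)).map (fun r => ((f4Spec.ρ r : ℕ), f4Spec.lam r)) =
      [(24, 2), (33, 1), (25, 2), (27, 1), (30, 2), (28, 1)] := by decide +kernel

theorem node_tables : ∀ i : Fin chevF4.rank, ∀ r : Fin chevF4.nroots,
    (r : ℕ) = chevF4.simple i → (f4Spec.ρ r : ℕ) = chevF4.simple (sw i) ∧
      f4Spec.lam r = ([2, 2, 1, 1] : List ℕ).getD i 0 := by
  decide +kernel

theorem rho_pos : ∀ r : Fin chevF4.nroots,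
    half chevF4 ≤ (rho r : ℕ) ↔ half chevF4 ≤ (r : ℕ) := by decide +kernel

theorem rho_wPerm : ∀ i : Fin chevF4.rank, ∀ r : Fin chevF4.nroots,
    rho (wPerm facts_chevF4.{0} i r) = wPerm facts_chevF4.{0} (sw i) (rho r) := by
  decide +kernel

theorem rho_pWord (w : List (Fin chevF4.rank)) :
    rho * pWord facts_chevF4.{0} w = pWord facts_chevF4.{0} (w.map sw) * rho := by
  induction w with
  | nil => simp [pWord]
  | cons i w ih =>
    ext r
    have e := Equiv.ext_iff.1 ih r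
    simp only [Equiv.Perm.mul_apply, List.map_cons, pWord_cons] at e ⊢
    rw [rho_wPerm, e]

variable (K : Type u) [Field K] [CharP K 2] (m : ℕ)

instance : Fact (Nat.Prime 2) := ⟨Nat.prime_two⟩

/-- The field endomorphism `t ↦ t ^ 2 ^ m`. -/
noncomputable def th : K →+* K := iterateFrobenius K 2 m

theorem th_apply (t : K) : th K m t = t ^ 2 ^ m := iterateFrobenius_def ..

/-- The endomorphism on the group. -/
noncomputable def sg : ↥(chevF4.group K) →* GL chevF4.Idx K :=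
  haveI : CharP K f4Spec.p := ‹CharP K 2›
  (chevF4.group K).subtype.comp
    ((f4SpecFacts.iso facts_chevF4 f4_simple' (F := K)).comp
      (groupMap facts_chevF4 facts_chevF4 (th K m)))

variable {K}

theorem sg_x (r : Fin chevF4.nroots) (t : K) (h : xG facts_chevF4 r t ∈ chevF4.group K) :
    sg K m ⟨xG facts_chevF4 r t, h⟩ =
      xG facts_chevF4 (f4Spec.ρ r) ((th K m t) ^ f4Spec.lam r) := by
  haveI : CharP K f4Spec.p := ‹CharP K 2›
  have e : groupMap facts_chevF4 facts_chevF4 (th K m)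
      (⟨xG facts_chevF4 r t, h⟩ : ↥(chevF4.group K)) = SpecFacts.xM facts_chevF4 r (th K m t) :=
    Subtype.ext (gmap_xG facts_chevF4 facts_chevF4 (th K m) r t)
  show ((f4SpecFacts.iso facts_chevF4 f4_simple' (groupMap facts_chevF4 facts_chevF4 (th K m)
    (⟨xG facts_chevF4 r t, h⟩ : ↥(chevF4.group K))) : ↥(chevF4.group K)) : GL chevF4.Idx K) = _
  rw [e, f4SpecFacts.iso_x]
  rfl

attribute [irreducible] sg

/-- `g'` is the image of `g`. -/
def IsImg (g g' : GL chevF4.Idx K) : Prop :=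
  ∃ h : g ∈ chevF4.group K, sg K m ⟨g, h⟩ = g'

/-- The fixed elements. -/
noncomputable def fx : Subgroup (GL chevF4.Idx K) :=
  (MonoidHom.eqLocus (sg K m) (chevF4.group K).subtype).map (chevF4.group K).subtype

theorem mem_fx {g : GL chevF4.Idx K} : g ∈ fx m ↔ IsImg m g g := by
  constructor
  · rintro ⟨⟨g', hg'⟩, he, rfl⟩
    exact ⟨hg', he⟩
  · rintro ⟨h, e⟩
    exact ⟨⟨g, h⟩, e, rfl⟩

variable {m}

theorem IsImg.mul {g g' k k' : GL chevF4.Idx K} (h : IsImg m g g') (h' : IsImg m k k') :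
    IsImg m (g * k) (g' * k') := by
  obtain ⟨h, rfl⟩ := h
  obtain ⟨h', rfl⟩ := h'
  exact ⟨Subgroup.mul_mem _ h h', map_mul (sg K m) ⟨g, h⟩ ⟨k, h'⟩⟩

theorem IsImg.unique {g g' g'' : GL chevF4.Idx K} (h : IsImg m g g') (h' : IsImg m g g'') :
    g' = g'' := by
  obtain ⟨_, rfl⟩ := h
  obtain ⟨_, rfl⟩ := h'
  rfl

theorem IsImg.one : IsImg m (1 : GL chevF4.Idx K) 1 := ⟨Subgroup.one_mem _, map_one (sg K m)⟩

theorem IsImg.inv {g g' : GL chevF4.Idx K} (h : IsImg m g g') : IsImg m g⁻¹ g'⁻¹ := by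
  obtain ⟨h, rfl⟩ := h
  exact ⟨Subgroup.inv_mem _ h, map_inv (sg K m) ⟨g, h⟩⟩

theorem fx_le_group : fx (K := K) m ≤ chevF4.group K := fun _ h => ((mem_fx m).1 h).1

theorem eq_of_mem_fx {g g' : GL chevF4.Idx K} (h : g ∈ fx m) (h' : IsImg m g g') : g' = g :=
  h'.unique ((mem_fx m).1 h)

theorem isImg_x (r : Fin chevF4.nroots) (t : K) :
    IsImg m (xG facts_chevF4 r t) (xG facts_chevF4 (f4Spec.ρ r) ((th K m t) ^ f4Spec.lam r)) :=
  ⟨xG_mem_group facts_chevF4 r t, sg_x m r t _⟩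

theorem isImg_X {r : ℕ} (hr : r < 48) {r' l : ℕ} (t : K)
    (h : ((f4Spec.ρ ⟨r, hr⟩ : ℕ), f4Spec.lam ⟨r, hr⟩) = (r', l)) :
    IsImg m (X r t) (X r' ((th K m t) ^ l)) := by
  obtain ⟨h1, h2⟩ := Prod.ext_iff.1 h
  have := isImg_x (m := m) (⟨r, hr⟩ : Fin chevF4.nroots) t
  simp only at h1 h2
  rw [h1, h2] at this
  exact this

theorem rho_six : ((f4Spec.ρ (⟨33, by decide⟩ : Fin chevF4.nroots) : ℕ), f4Spec.lam (⟨33, by decide⟩ : Fin chevF4.nroots)) = (24, 2) ∧
    ((f4Spec.ρ (⟨24, by decide⟩ : Fin chevF4.nroots) : ℕ), f4Spec.lam (⟨24, by decide⟩ : Fin chevF4.nroots)) = (33, 1) ∧ ((f4Spec.ρ (⟨27, by decide⟩ : Fin chevF4.nroots) : ℕ), f4Spec.lam (⟨27, by decide⟩ : Fin chevF4.nroots)) = (25, 2) ∧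
    ((f4Spec.ρ (⟨25, by decide⟩ : Fin chevF4.nroots) : ℕ), f4Spec.lam (⟨25, by decide⟩ : Fin chevF4.nroots)) = (27, 1) ∧ ((f4Spec.ρ (⟨28, by decide⟩ : Fin chevF4.nroots) : ℕ), f4Spec.lam (⟨28, by decide⟩ : Fin chevF4.nroots)) = (30, 2) ∧
    ((f4Spec.ρ (⟨30, by decide⟩ : Fin chevF4.nroots) : ℕ), f4Spec.lam (⟨30, by decide⟩ : Fin chevF4.nroots)) = (28, 1) := by
  decide +kernel

theorem isImg_W2 (a b : K) : IsImg m (W2 a b) (W2 (th K m b) ((th K m a) ^ 2)) := by
  have h := (isImg_X (m := m) (r := 33) (by omega) a rho_six.1).mul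
    (isImg_X (m := m) (r := 24) (by omega) b rho_six.2.1)
  rw [pow_one] at h
  have hc := (X_comm (r := 33) (s := 24) (by decide) (th K m b) ((th K m a) ^ 2)).eq
  simp only [W2] at hc ⊢
  rw [hc] at h
  exact h

theorem isImg_W4 (a b c d : K) : IsImg m (W4 a b c d)
    (W4 (th K m b) ((th K m a) ^ 2) (th K m d + th K m b * (th K m a) ^ 2)
      ((th K m c) ^ 2 + (th K m b) ^ 2 * (th K m a) ^ 2)) := by
  have h := (((isImg_X (m := m) (r := 27) (by omega) a rho_six.2.2.1).mul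
    (isImg_X (m := m) (r := 25) (by omega) b rho_six.2.2.2.1)).mul
    (isImg_X (m := m) (r := 28) (by omega) c rho_six.2.2.2.2.1)).mul
    (isImg_X (m := m) (r := 30) (by omega) d rho_six.2.2.2.2.2)
  have e : ∀ A B C D : K, X 25 A * X 27 B * X 30 C * X 28 D =
      W4 B A (D + B * A) (C + B ^ 2 * A) := fun A B C D => by
    rw [X25_eq, X27_eq, X28_eq, X30_eq, W4_mul, W4_mul, W4_mul]
    congr 1 <;> ring
  rw [pow_one, pow_one, e] at h
  exact h

theorem isImg_nG (r : Fin chevF4.nroots) (t : K) :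
    IsImg m (nG facts_chevF4 r t) (nG facts_chevF4 (f4Spec.ρ r) ((th K m t) ^ f4Spec.lam r)) := by
  obtain ⟨s, hs⟩ : ∃ s : Fin chevF4.nroots, (s : ℕ) = chevF4.neg r :=
    ⟨⟨_, neg_lt facts_chevF4.{u} r.2⟩, rfl⟩
  have h2 : IsImg m (xG facts_chevF4 (chevF4.neg r) (-t⁻¹))
      (xG facts_chevF4 (chevF4.neg (f4Spec.ρ r)) (-((th K m t) ^ f4Spec.lam r)⁻¹)) := by
    have := isImg_x (m := m) s (-t⁻¹)
    rw [((rho_tables r).2 s hs).1, ((rho_tables r).2 s hs).2, hs, map_neg, map_inv₀, neg_eq,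
      neg_eq, inv_pow] at this
    rw [neg_eq, neg_eq]
    exact this
  exact ((isImg_x r t).mul h2).mul (isImg_x r t)

theorem isImg_hG (r : Fin chevF4.nroots) (t : K) :
    IsImg m (hG facts_chevF4 r t) (hG facts_chevF4 (f4Spec.ρ r) ((th K m t) ^ f4Spec.lam r)) := by
  have h := (isImg_nG (m := m) r t).mul (isImg_nG (m := m) r (-1 : K))
  rw [map_neg, map_one, neg_eq, one_pow] at h
  rw [hG, hG, neg_eq]
  exact h

theorem isImg_nWord (w : List (Fin chevF4.rank)) :
    IsImg m (nWord facts_chevF4 w : GL chevF4.Idx K) (nWord facts_chevF4 (w.map sw)) := by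
  induction w with
  | nil => exact IsImg.one
  | cons i w ih =>
    rw [List.map_cons, nWord_cons, nWord_cons]
    refine IsImg.mul ?_ ih
    have h := isImg_nG (m := m) (sRoot facts_chevF4.{u} i) (1 : K)
    rw [map_one, one_pow, (node_tables i (sRoot facts_chevF4.{u} i) rfl).1] at h
    exact h

theorem exists_img_uGens {P Q : Fin chevF4.nroots → Prop}
    (h : ∀ r : Fin chevF4.nroots, half chevF4 ≤ (r : ℕ) → P r → Q (rho r)) {g : GL chevF4.Idx K}
    (hg : g ∈ Subgroup.closure (uGens facts_chevF4 P)) :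
    ∃ g' ∈ Subgroup.closure (uGens facts_chevF4 Q), IsImg m g g' := by
  induction hg using Subgroup.closure_induction with
  | mem y hy =>
    obtain ⟨r, t, h1, h2, rfl⟩ := hy
    exact ⟨_, Subgroup.subset_closure ⟨rho r, _, (rho_pos r).2 h1, h r h1 h2, rfl⟩, isImg_x r t⟩
  | one => exact ⟨1, Subgroup.one_mem _, IsImg.one⟩
  | mul y z _ _ hy hz =>
    obtain ⟨y', hy', e⟩ := hy
    obtain ⟨z', hz', e'⟩ := hz
    exact ⟨y' * z', Subgroup.mul_mem _ hy' hz', e.mul e'⟩
  | inv y _ hy =>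
    obtain ⟨y', hy', e⟩ := hy
    exact ⟨y'⁻¹, Subgroup.inv_mem _ hy', e.inv⟩

theorem exists_img_posU {g : GL chevF4.Idx K} (hg : g ∈ chevF4.posUnipotent K) :
    ∃ g' ∈ chevF4.posUnipotent K, IsImg m g g' := by
  have h : g ∈ Subgroup.closure (uGens facts_chevF4 fun _ => True) := by
    rw [posUnipotent_eq facts_chevF4] at hg
    refine (Subgroup.closure_le _).2 ?_ hg
    rintro _ ⟨r, t, h1, h2, rfl⟩
    exact Subgroup.subset_closure ⟨⟨r, h2⟩, t, h1, trivial, rfl⟩
  obtain ⟨g', hg', e⟩ := exists_img_uGens (m := m) (Q := fun _ => True) (fun _ _ h => h) h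
  exact ⟨g', closure_uGens_le facts_chevF4 _ hg', e⟩

theorem exists_img_uMinus {w : List (Fin chevF4.rank)} {g : GL chevF4.Idx K}
    (hg : g ∈ uMinus facts_chevF4 (pWord facts_chevF4.{u} w)) :
    ∃ g' ∈ uMinus facts_chevF4 (pWord facts_chevF4.{u} (w.map sw)), IsImg m g g' := by
  refine exists_img_uGens (fun r _ h2 => ?_) hg
  show (pWord facts_chevF4.{0} (w.map sw) (rho r) : ℕ) < half chevF4
  rw [← Equiv.Perm.mul_apply, ← rho_pWord, Equiv.Perm.mul_apply]
  exact not_le.1 fun h => not_le.2 h2 ((rho_pos _).1 h)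

/-- Four torus parameters. -/
noncomputable def tv (c₀ c₁ c₂ c₃ : Kˣ) : Fin chevF4.rank → Kˣ := fun i =>
  if (i : ℕ) = 0 then c₀ else if (i : ℕ) = 1 then c₁ else if (i : ℕ) = 2 then c₂ else c₃

omit [CharP K 2] in
theorem tv_mul (a b c d a' b' c' d' : Kˣ) :
    tv a b c d * tv a' b' c' d' = tv (a * a') (b * b') (c * c') (d * d') := by
  funext i
  simp only [tv, Pi.mul_apply]
  split_ifs <;> rfl

omit [CharP K 2] in
theorem tv_one : tv (1 : Kˣ) 1 1 1 = 1 := funext fun i => by simp [tv]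

omit [CharP K 2] in
theorem eq_tv (c : Fin chevF4.rank → Kˣ) : ∃ c₀ c₁ c₂ c₃, c = tv c₀ c₁ c₂ c₃ :=
  ⟨c ⟨0, by decide⟩, c ⟨1, by decide⟩, c ⟨2, by decide⟩, c ⟨3, by decide⟩, funext fun i => by
    fin_cases i <;> simp [tv]⟩

omit [CharP K 2] in
theorem tv_single : ∀ i : Fin chevF4.rank, ∀ t : Kˣ, Pi.mulSingle i t =
    tv (if (i : ℕ) = 0 then t else 1) (if (i : ℕ) = 1 then t else 1)
      (if (i : ℕ) = 2 then t else 1) (if (i : ℕ) = 3 then t else 1) := by
  intro i t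
  funext j
  fin_cases i <;> fin_cases j <;> simp [tv, Pi.mulSingle_apply, Fin.ext_iff]

theorem isImg_single (i : Fin chevF4.rank) (t : Kˣ) :
    IsImg m (torusHom (Pi.mulSingle i t) : GL chevF4.Idx K) (torusHom (Pi.mulSingle (sw i)
      (Units.map (th K m).toMonoidHom t ^ ([2, 2, 1, 1] : List ℕ).getD i 0))) := by
  have h := isImg_hG (m := m) (sRoot facts_chevF4.{u} i) (t : K)
  obtain ⟨h1, h2⟩ := node_tables i (sRoot facts_chevF4.{u} i) rfl
  rw [h1, h2] at h
  have e : ((Units.map (th K m).toMonoidHom t ^ ([2, 2, 1, 1] : List ℕ).getD i 0 : Kˣ) : K) =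
      th K m (t : K) ^ ([2, 2, 1, 1] : List ℕ).getD i 0 := by simp
  rw [← e] at h
  rw [show ((sRoot facts_chevF4.{u} i : Fin chevF4.nroots) : ℕ) = chevF4.simple i from rfl,
    hG_simple facts_chevF4 i.2, hG_simple facts_chevF4 (sw i).2, coH_simple facts_chevF4 i.2,
    coH_simple facts_chevF4 (sw i).2] at h
  exact h

/-- The endomorphism on the torus parameters. -/
theorem isImg_torus (c₀ c₁ c₂ c₃ : Kˣ) : IsImg m (torusHom (tv c₀ c₁ c₂ c₃) : GL chevF4.Idx K)
    (torusHom (tv (Units.map (th K m).toMonoidHom c₃) (Units.map (th K m).toMonoidHom c₂)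
      (Units.map (th K m).toMonoidHom c₁ ^ 2) (Units.map (th K m).toMonoidHom c₀ ^ 2))) := by
  have h := (((isImg_single (m := m) ⟨0, by decide⟩ c₀).mul
    (isImg_single (m := m) ⟨1, by decide⟩ c₁)).mul
    (isImg_single (m := m) ⟨2, by decide⟩ c₂)).mul (isImg_single (m := m) ⟨3, by decide⟩ c₃)
  simp only [← map_mul] at h
  have e1 : ∀ a b c d : Kˣ, Pi.mulSingle (⟨0, by decide⟩ : Fin chevF4.rank) a *
      Pi.mulSingle ⟨1, by decide⟩ b * Pi.mulSingle ⟨2, by decide⟩ c *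
      Pi.mulSingle ⟨3, by decide⟩ d = tv a b c d := fun a b c d => by
    funext j
    fin_cases j <;> simp [tv, Pi.mulSingle_apply, Fin.ext_iff]
  have e2 : ∀ a b c d : Kˣ, Pi.mulSingle (⟨3, by decide⟩ : Fin chevF4.rank) (a ^ 2) *
      Pi.mulSingle ⟨2, by decide⟩ (b ^ 2) * Pi.mulSingle ⟨1, by decide⟩ (c ^ 1) *
      Pi.mulSingle ⟨0, by decide⟩ (d ^ 1) = tv d c (b ^ 2) (a ^ 2) := fun a b c d => by
    funext j
    fin_cases j <;> simp [tv, Pi.mulSingle_apply, Fin.ext_iff]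
  rw [e1] at h
  rw [← e2]
  exact h

omit [CharP K 2] in
theorem cartan_simple : ∀ i j : Fin chevF4.rank, chevF4.cartan j (chevF4.simple i) =
    (([[2, -1, 0, 0], [-1, 2, -1, 0], [0, -2, 2, -1], [0, 0, -1, 2]] : List (List ℤ)).getD i
      []).getD j 0 := by
  decide +kernel

omit [CharP K 2] in
theorem torusHom_injective : Function.Injective
    (torusHom : (Fin chevF4.rank → Kˣ) →* GL chevF4.Idx K) := by
  refine (injective_iff_map_eq_one _).2 fun c hc => ?_
  obtain ⟨a, b, c', d, rfl⟩ := eq_tv c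
  have hh := (torusHom_eq_one_iff _).1 hc
  have e : ∀ i : Fin 4, ∏ j : Fin 4, (tv a b c' d j) ^
      (([[2, -1, 0, 0], [-1, 2, -1, 0], [0, -2, 2, -1], [0, 0, -1, 2]] : List (List ℤ)).getD i
        []).getD j 0 = 1 := by
    intro i
    refine Eq.trans (Finset.prod_congr rfl fun j _ => ?_) (hh (sRoot facts_chevF4.{u} i))
    exact congrArg (tv a b c' d j ^ ·) (cartan_simple i j).symm
  have e0 := e 0; have e1 := e 1; have e2 := e 2; have e3 := e 3
  simp [Fin.prod_univ_four, tv] at e0 e1 e2 e3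
  simp only [zpow_ofNat, mul_inv_eq_one, inv_mul_eq_one] at e0 e1 e2 e3
  have hb : b = a ^ 2 := e0.symm
  subst hb
  have hc3 : c' = a ^ 3 := by
    rw [← e1, inv_mul_eq_iff_eq_mul, ← pow_succ', ← pow_mul]
  subst hc3
  have hd : d = a ^ 2 := by
    rw [← e2, inv_mul_eq_iff_eq_mul, ← pow_mul, ← pow_mul, ← pow_add]
  subst hd
  have ha : a = 1 := by
    rw [← pow_mul] at e3
    exact mul_left_cancel (a := a ^ 3) (by rw [mul_one, ← pow_succ]; exact e3.symm)
  subst ha
  simp [tv_one]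

/-- The torus of `²F₄`. -/
noncomputable def tor (m : ℕ) : Kˣ × Kˣ →* GL chevF4.Idx K where
  toFun p := torusHom (tv (Units.map (th K m).toMonoidHom p.1) (Units.map (th K m).toMonoidHom p.2)
    p.2 p.1)
  map_one' := by rw [Prod.fst_one, Prod.snd_one, map_one, tv_one, map_one]
  map_mul' a b := by rw [← map_mul torusHom, tv_mul, Prod.fst_mul, Prod.snd_mul, map_mul, map_mul]

theorem tor_injective : Function.Injective (tor (K := K) m) := fun a b h => by
  have := torusHom_injective h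
  exact Prod.ext (by simpa [tv] using congrFun this ⟨3, by decide⟩)
    (by simpa [tv] using congrFun this ⟨2, by decide⟩)

theorem tor_mem_diagonal (p : Kˣ × Kˣ) : tor m p ∈ chevF4.diagonalSubgroup K :=
  torusHom_mem facts_chevF4 _

/-- The hypothesis on the field: twice `θ` followed by squaring is the identity. -/
def IsTheta (K : Type u) [Field K] [CharP K 2] (m : ℕ) : Prop :=
  ∀ t : K, th K m ((th K m t) ^ 2) = t

theorem th_th (hm : IsTheta K m) (t : K) : th K m (th K m t) ^ 2 = t := by rw [← map_pow, hm]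

theorem units_theta (hm : IsTheta K m) (c : Kˣ) :
    Units.map (th K m).toMonoidHom (Units.map (th K m).toMonoidHom c) ^ 2 = c :=
  Units.ext (th_th hm c)

theorem tor_mem_fx (hm : IsTheta K m) (p : Kˣ × Kˣ) : tor m p ∈ fx m := by
  have h := isImg_torus (m := m) (Units.map (th K m).toMonoidHom p.1)
    (Units.map (th K m).toMonoidHom p.2) p.2 p.1
  rw [units_theta hm, units_theta hm] at h
  exact (mem_fx m).2 h

theorem exists_tor {c : Fin chevF4.rank → Kˣ} (h : (torusHom c : GL chevF4.Idx K) ∈ fx m) :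
    ∃ p, torusHom c = tor m p := by
  obtain ⟨c₀, c₁, c₂, c₃, rfl⟩ := eq_tv c
  have e := torusHom_injective (eq_of_mem_fx h (isImg_torus c₀ c₁ c₂ c₃))
  have h0 := congrFun e ⟨0, by decide⟩
  have h1 := congrFun e ⟨1, by decide⟩
  simp only [tv, ↓reduceIte, one_ne_zero] at h0 h1
  exact ⟨(c₃, c₂), by rw [← h0, ← h1]; rfl⟩

/-- The fixed elements of the first fundamental piece. -/
noncomputable def yA (m : ℕ) (t : K) : GL chevF4.Idx K := W2 (th K m t) t

/-- The fixed elements of the second fundamental piece. -/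
noncomputable def yB (m : ℕ) (t u : K) : GL chevF4.Idx K :=
  W4 (th K m t) t (th K m t * t + u) ((th K m u) ^ 2)

theorem yA_mem_fx (hm : IsTheta K m) (t : K) : yA m t ∈ fx m := by
  have h := isImg_W2 (m := m) (th K m t) t
  rw [th_th hm] at h
  exact (mem_fx m).2 h

theorem yB_mem_fx (hm : IsTheta K m) (t u : K) : yB m t u ∈ fx m := by
  have h := isImg_W4 (m := m) (th K m t) t (th K m t * t + u) ((th K m u) ^ 2)
  have e1 : th K m ((th K m u) ^ 2) = u := hm u
  rw [th_th hm, e1, map_add, map_mul, CharTwo.add_sq, mul_pow, th_th hm] at h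
  refine (mem_fx m).2 ?_
  rw [add_comm u] at h
  rwa [show t * th K m t ^ 2 + th K m u ^ 2 + th K m t ^ 2 * t = th K m u ^ 2 by
    linear_combination (th K m t ^ 2 * t) * two_eq (K := K)] at h

theorem exists_yA {a b : K} (h : W2 a b ∈ fx m) : W2 a b = yA m b := by
  obtain ⟨h1, -⟩ := W2_injective (eq_of_mem_fx h (isImg_W2 a b))
  rw [yA, h1]

theorem exists_yB {a b c d : K} (h : W4 a b c d ∈ fx m) : W4 a b c d = yB m b (th K m d) := by
  obtain ⟨h1, h2, h3, h4⟩ := W4_injective (eq_of_mem_fx h (isImg_W4 a b c d))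
  subst h1
  rw [h2] at h3
  subst h3
  have hd : th K m (th K m d) ^ 2 = d := by
    rw [map_add, map_mul, CharTwo.add_sq, mul_pow] at h4
    linear_combination h4 - 2 * (th K m b) ^ 2 * h2 - (th K m b ^ 2 * b) * two_eq (K := K)
  rw [yB, hd, add_comm]

end ReeF4

end Cfsg.Agent.Chev
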