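import Cfsg.Agent.Chev.ReeF4.Stmts
import Mathlib.RingTheory.IntegralDomain

/-!
Two elements generating `²F₄`.
-/

set_option autoImplicit false
set_option maxRecDepth 100000
set_option maxHeartbeats 1000000

namespace Cfsg.Agent.Chev

open Cfsg.Lie
open scoped MatrixGroups

universe u

namespace ReeF4

namespace TwoGen

variable {K : Type u} [Field K] [CharP K 2] {m : ℕ}

/-- The field endomorphism on units. -/
noncomputable abbrev tu (m : ℕ) : Kˣ →* Kˣ := Units.map (th K m).toMonoidHom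

omit [CharP K 2] in
/-- A value of a character on four parameters, from a column of the Cartan table. -/
theorem chi_col (c₀ c₁ c₂ c₃ : Kˣ) {r : ℕ} {a b c d : ℤ}
    (h : ([0, 1, 2, 3] : List (Fin 4)).map (fun j : Fin 4 => chevF4.cartan j r) = [a, b, c, d]) :
    chiU (tv c₀ c₁ c₂ c₃) r = c₀ ^ a * c₁ ^ b * c₂ ^ c * c₃ ^ d := by
  simp only [List.map_cons, List.map_nil, List.cons.injEq, and_true] at h
  show ∏ j : Fin 4, _ ^ chevF4.cartan j r = _
  rw [Fin.prod_univ_four, h.1, h.2.1, h.2.2.1, h.2.2.2]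
  simp [tv]

theorem theta_sq (hm : IsTheta K m) (g : Kˣ) : (tu m) ((tu m) g ^ 2) = g := by
  rw [map_pow, units_theta hm]

/-- The first torus parameter. -/
noncomputable def fstPar (m : ℕ) (g : Kˣ) : Kˣ := g ^ 2 * ((tu m) g ^ 2)⁻¹

/-- The character of the first piece on the chosen torus element. -/
noncomputable def phi (m : ℕ) : Kˣ →* Kˣ where
  toFun g := g⁻¹ * fstPar m g ^ 2
  map_one' := by simp [fstPar]
  map_mul' a b := by
    simp only [fstPar, map_mul]
    apply Additive.ofMul.injective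
    simp only [ofMul_mul, ofMul_inv, ofMul_zpow, ofMul_pow, ofMul_one]
    abel

theorem phi_injective (hm : IsTheta K m) : Function.Injective (phi (K := K) m) := by
  refine (injective_iff_map_eq_one _).2 fun g hg => ?_
  set w : Kˣ := (tu m) g ^ 2 with hw
  have h1 : g ^ 3 = w ^ 2 := by
    have e : g⁻¹ * (g ^ 2 * w⁻¹) ^ 2 = 1 := hg
    rw [inv_mul_eq_one, mul_pow, inv_pow, eq_mul_inv_iff_mul_eq, ← pow_mul] at e
    calc g ^ 3 = (g ^ 2) ^ 2 * g⁻¹ := by group
      _ = w ^ 2 := by rw [← e, mul_inv_cancel_comm, hw, ← pow_mul]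
  have h2 : (tu m) g ^ 3 = g ^ 2 := by
    rw [← map_pow, h1, map_pow, hw, theta_sq hm]
  have h3 : w ^ 3 = g ^ 4 := by
    rw [hw, ← pow_mul, pow_mul' _ 2 3, h2, ← pow_mul]
  have h4 : g ^ 9 = g ^ 8 := by
    calc g ^ 9 = (g ^ 3) ^ 3 := by rw [← pow_mul]
      _ = (w ^ 3) ^ 2 := by rw [h1, pow_right_comm]
      _ = g ^ 8 := by rw [h3, ← pow_mul]
  rw [pow_succ] at h4
  exact mul_eq_left.1 h4

/-- The chosen torus element. -/
noncomputable def hh (m : ℕ) (g : Kˣ) : GL chevF4.Idx K := tor m (fstPar m g, g)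

theorem theta_fstPar (hm : IsTheta K m) (g : Kˣ) : (tu m) (fstPar m g) = (tu m) g ^ 2 * g⁻¹ := by
  rw [fstPar, map_mul, map_inv, theta_sq hm, map_pow]

theorem hh_conj_yA (hm : IsTheta K m) (g : Kˣ) (t : K) :
    hh m g * yA m t * (hh m g)⁻¹ = yA m ((phi m g : K) * t) := by
  obtain ⟨t', ht'⟩ := mem_fm_A (torus_conj_fm hm (h := hh m g) ⟨_, rfl⟩ (yA_mem_fm hm t))
  rw [ht']
  have hc : chiU (tv ((tu m) (fstPar m g)) ((tu m) g) g (fstPar m g)) 24 = phi m g := by
    rw [chi_col _ _ _ _ (a := 0) (b := 0) (c := -1) (d := 2) (by decide +kernel)]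
    simp only [zpow_zero, one_mul, zpow_neg, zpow_one]
    rfl
  set c := tv ((tu m) (fstPar m g)) ((tu m) g) g (fstPar m g) with hcdef
  have e : hh m g * yA m t * (hh m g)⁻¹ =
      W2 ((chiU c 33 : K) * th K m t) ((chiU c 24 : K) * t) := by
    show torusHom c * W2 (th K m t) t * (torusHom c)⁻¹ = _
    rw [W2, W2, ← mul_assoc, torusHom_conj facts_chevF4 c (r := 33) (by decide),
      mul_assoc _ (torusHom c), torusHom_conj facts_chevF4 c (r := 24) (by decide), ← mul_assoc,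
      mul_inv_cancel_right]
  rw [ht'] at e
  obtain ⟨-, h2⟩ := W2_injective e
  rw [h2, hc]

theorem hh_commute_yB (hm : IsTheta K m) (g : Kˣ) (t u : K) :
    Commute (hh m g) (yB m t u) := by
  refine mul_inv_eq_iff_eq_mul.1 ?_
  show torusHom (tv _ _ _ _) * W4 _ _ _ _ * (torusHom (tv _ _ _ _))⁻¹ = W4 _ _ _ _
  rw [torus_conj_W4]
  have h27 : chiU (tv ((tu m) (fstPar m g)) ((tu m) g) g (fstPar m g)) 27 = 1 := by
    rw [chi_col _ _ _ _ (a := -1) (b := 2) (c := -1) (d := 0) (by decide +kernel),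
      theta_fstPar hm, zpow_zero]
    apply Additive.ofMul.injective
    simp only [ofMul_mul, ofMul_inv, ofMul_zpow, ofMul_pow, ofMul_one]
    abel
  have h25 : chiU (tv ((tu m) (fstPar m g)) ((tu m) g) g (fstPar m g)) 25 = 1 := by
    rw [chi_col _ _ _ _ (a := 0) (b := -2) (c := 2) (d := -1) (by decide +kernel), fstPar, zpow_zero]
    apply Additive.ofMul.injective
    simp only [ofMul_mul, ofMul_inv, ofMul_zpow, ofMul_pow, ofMul_one]
    abel
  have h28 : chiU (tv ((tu m) (fstPar m g)) ((tu m) g) g (fstPar m g)) 28 = 1 := by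
    rw [chi_col _ _ _ _ (a := -1) (b := 0) (c := 1) (d := -1) (by decide +kernel),
      theta_fstPar hm, fstPar, zpow_zero]
    apply Additive.ofMul.injective
    simp only [ofMul_mul, ofMul_inv, ofMul_zpow, ofMul_pow, ofMul_one]
    abel
  have h30 : chiU (tv ((tu m) (fstPar m g)) ((tu m) g) g (fstPar m g)) 30 = 1 := by
    rw [chi_col _ _ _ _ (a := -2) (b := 2) (c := 0) (d := -1) (by decide +kernel),
      theta_fstPar hm, fstPar, zpow_zero]
    apply Additive.ofMul.injective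
    simp only [ofMul_mul, ofMul_inv, ofMul_zpow, ofMul_pow, ofMul_one]
    abel
  rw [h27, h25, h28, h30, Units.val_one, one_mul, one_mul, one_mul, one_mul]

/-- The element permuting cyclically. -/
noncomputable def nn : GL chevF4.Idx K := sO 0 * sO 1

theorem nn_inv : (nn : GL chevF4.Idx K)⁻¹ = sO 1 * sO 0 := by
  rw [nn, mul_inv_rev, sO_inv, sO_inv]

theorem perm_values : ([⟨24, by decide⟩, ⟨33, by decide⟩] : List (Fin chevF4.nroots)).map
    (fun r => (wA 0 r : ℕ)) = [23, 14] ∧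
    ([⟨23, by decide⟩, ⟨14, by decide⟩] : List (Fin chevF4.nroots)).map (fun r => (wA 1 r : ℕ)) = [15, 10] := by
  decide +kernel

theorem nn_inv_conj (a b : K) :
    (nn : GL chevF4.Idx K)⁻¹ * W2 a b * nn = X 10 a * X 15 b := by
  obtain ⟨p, q⟩ := perm_values
  simp only [List.map_cons, List.map_nil, List.cons.injEq, and_true] at p q
  have k : sO 0 * (X 33 a * X 24 b) * sO 0 = (X 14 a * X 23 b : GL chevF4.Idx K) := by
    rw [conj_mul, sO_X 0 (r := 33) (r' := 14) (by decide) p.2,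
      sO_X 0 (r := 24) (r' := 23) (by decide) p.1]
  calc (nn : GL chevF4.Idx K)⁻¹ * W2 a b * nn
      = sO 1 * (sO 0 * (X 33 a * X 24 b) * sO 0) * sO 1 := by
        rw [nn_inv, nn, W2]; simp only [mul_assoc]
    _ = _ := by
        rw [k, conj_mul, sO_X 1 (r := 14) (r' := 10) (by decide) q.2,
          sO_X 1 (r := 23) (r' := 15) (by decide) q.1]

theorem chi_back (hm : IsTheta K m) (g : Kˣ) :
    chiU (tv ((tu m) (fstPar m g)) ((tu m) g) g (fstPar m g)) 15 = (phi m g)⁻¹ ∧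
    chiU (tv ((tu m) (fstPar m g)) ((tu m) g) g (fstPar m g)) 10 = (tu m) ((phi m g)⁻¹) := by
  have e : phi m g = g⁻¹ * fstPar m g ^ 2 := rfl
  constructor
  · rw [chi_col _ _ _ _ (a := 2) (b := 0) (c := -1) (d := 0) (by decide +kernel), e,
      theta_fstPar hm, fstPar]
    apply Additive.ofMul.injective
    simp only [ofMul_mul, ofMul_inv, ofMul_zpow, ofMul_pow, ofMul_one]
    abel
  · rw [chi_col _ _ _ _ (a := 0) (b := -1) (c := 0) (d := 1) (by decide +kernel), e,
      map_inv, map_mul, map_inv, map_pow, theta_fstPar hm, fstPar]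
    apply Additive.ofMul.injective
    simp only [ofMul_mul, ofMul_inv, ofMul_zpow, ofMul_pow, ofMul_one]
    abel

/-- The conjugate of the torus element acts on the first piece by the inverse character. -/
theorem nn_hh_conj (hm : IsTheta K m) (g : Kˣ) (t : K) :
    nn * hh m g * nn⁻¹ * yA m t =
      yA m (((phi m g)⁻¹ : Kˣ) * t) * (nn * hh m g * nn⁻¹ : GL chevF4.Idx K) := by
  obtain ⟨e15, e10⟩ := chi_back hm g
  set c := tv ((tu m) (fstPar m g)) ((tu m) g) g (fstPar m g) with hc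
  have key : hh m g * ((nn : GL chevF4.Idx K)⁻¹ * yA m t * nn) =
      (nn⁻¹ * yA m (((phi m g)⁻¹ : Kˣ) * t) * nn) * hh m g := by
    rw [yA, yA, nn_inv_conj, nn_inv_conj]
    show torusHom c * _ = _ * torusHom c
    rw [← mul_assoc, torusHom_conj facts_chevF4 c (r := 10) (by decide), mul_assoc,
      torusHom_conj facts_chevF4 c (r := 15) (by decide), ← mul_assoc, e15, e10]
    simp
  calc nn * hh m g * nn⁻¹ * yA m t = nn * (hh m g * (nn⁻¹ * yA m t * nn)) * nn⁻¹ := by group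
    _ = _ := by rw [key]; group

theorem hh_commute (hm : IsTheta K m) (g : Kˣ) :
    Commute (hh m g) (nn * hh m g * nn⁻¹) := by
  obtain ⟨h', ⟨p, rfl⟩, e⟩ := torus_nW hm (h := hh m g) ⟨_, rfl⟩ [1, 0]
  have e' : nn * hh m g * nn⁻¹ = tor m p := by
    rw [nW_cons, nW_single] at e
    rw [nn_inv, mul_assoc, e, nn]
    simp only [← mul_assoc]
    rw [mul_assoc _ (sO 1) (sO 1), sO_sq, mul_one, sO_sq, one_mul]
  rw [e']
  exact (Commute.all _ _).map _

theorem nn_pow_four_conj (t : K) :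
    (nn : GL chevF4.Idx K) ^ 4 * yA m t * (nn ^ 4)⁻¹ = sO 0 * yA m t * sO 0 := by
  have hn : (nn : GL chevF4.Idx K) ^ 4 = nW [0, 1, 0, 1, 0, 1, 0, 1] := by
    simp [nn, nW_cons, nW_nil, pow_succ, mul_assoc]
  have hp : ([⟨24, by decide⟩, ⟨33, by decide⟩] : List (Fin chevF4.nroots)).map
      (fun r => (pW [0, 1, 0, 1, 0, 1, 0, 1] r : ℕ)) = [23, 14] := by decide +kernel
  simp only [List.map_cons, List.map_nil, List.cons.injEq, and_true] at hp
  obtain ⟨p, -⟩ := perm_values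
  simp only [List.map_cons, List.map_nil, List.cons.injEq, and_true] at p
  have hX : ∀ r : Fin chevF4.nroots, ∀ v : K, (nW [0, 1, 0, 1, 0, 1, 0, 1] : GL chevF4.Idx K) *
      X (r : ℕ) v = X (pW [0, 1, 0, 1, 0, 1, 0, 1] r : ℕ) v * nW [0, 1, 0, 1, 0, 1, 0, 1] :=
    fun r v => nWord_x _ r v
  rw [hn, yA, W2, conj_mul, sO_X 0 (r := 33) (r' := 14) (by decide) p.2,
    sO_X 0 (r := 24) (r' := 23) (by decide) p.1, ← mul_assoc,
    show (X 33 (th K m t) : GL chevF4.Idx K) = X ((⟨33, by decide⟩ : Fin chevF4.nroots) : ℕ) (th K m t) from rfl,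
    hX, mul_assoc _ (nW _) (X 24 t),
    show (X 24 t : GL chevF4.Idx K) = X ((⟨24, by decide⟩ : Fin chevF4.nroots) : ℕ) t from rfl,
    hX, hp.1, hp.2, ← mul_assoc, mul_inv_cancel_right]

/-- A product of elements of the first piece and its conjugate gives the first torus. -/
theorem tor_fst_eq (t : Kˣ) : (tor m (t, 1) : GL chevF4.Idx K) =
    yA m (t : K) * (sO 0 * yA m (t : K)⁻¹ * sO 0) * yA m (t : K) * sO 0 := by
  rw [nA_eq]
  have e1 : (sO 0 : GL chevF4.Idx K) = nG facts_chevF4 33 1 * nG facts_chevF4 24 1 := by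
    show nG facts_chevF4 (chevF4.simple 0) (1 : K) * (nG facts_chevF4 (chevF4.simple 3) 1 * 1) = _
    rw [simple_vals.1, simple_vals.2.2.2, mul_one]
  have e2 : ∀ r (s : K), nG facts_chevF4 r s * nG facts_chevF4 r 1 = hG facts_chevF4 r s :=
    fun r s => by rw [hG, neg_eq]
  rw [e1, show ∀ a b c d : GL chevF4.Idx K, a * b * (c * d) = a * (b * c) * d from
      fun a b c d => by group, ← (commute_nG_A (1 : K) (t : K)).eq,
    show ∀ a b c d : GL chevF4.Idx K, a * (b * c) * d = a * b * (c * d) from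
      fun a b c d => by group, e2, e2]
  show torusHom _ = _
  rw [← simple_vals.1, ← simple_vals.2.2.2,
    show th K m (t : K) = (((tu m) t : Kˣ) : K) from rfl,
    hG_simple facts_chevF4 (i := 0) (by decide), hG_simple facts_chevF4 (i := 3) (by decide),
    coH_simple facts_chevF4 (i := 0) (by decide), coH_simple facts_chevF4 (i := 3) (by decide),
    ← map_mul]
  congr 1
  funext i
  fin_cases i <;> simp [tv, tu, Fin.ext_iff] <;> rfl

theorem tor_fst_conj_yB (hm : IsTheta K m) (a : Kˣ) (t u : K) :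
    ∃ u', tor m (a, 1) * yB m t u * (tor m (a, 1))⁻¹ = yB m ((a⁻¹ : Kˣ) * t) u' := by
  obtain ⟨t', u', ht'⟩ := mem_fm_B (torus_conj_fm hm ⟨(a, 1), rfl⟩ (yB_mem_fm hm t u))
  have e := ht'
  change torusHom _ * W4 _ _ _ _ * (torusHom _)⁻¹ = W4 _ _ _ _ at e
  rw [torus_conj_W4] at e
  obtain ⟨-, h2, -, -⟩ := W4_injective e
  refine ⟨u', ?_⟩
  rw [ht', ← h2]
  congr 2
  rw [chi_col _ _ _ _ (a := 0) (b := -2) (c := 2) (d := -1) (by decide +kernel)]
  simp

theorem yB_sq (hm : IsTheta K m) (t u : K) :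
    yB m t u * yB m t u = yB m 0 (th K m t * t) := by
  rw [yB, yB, W4_mul]
  simp only [CharTwo.add_self_eq_zero, zero_add, map_zero, zero_mul, add_zero, map_mul, mul_pow,
    th_th hm]
  congr 1
  ring

theorem yB_pow_four (hm : IsTheta K m) (t u : K) : yB m t u ^ 4 = 1 := by
  rw [pow_succ, pow_succ, pow_two, mul_assoc, yB_sq hm, yB_sq hm]
  simp [yB, W4_zero]

section Finite

variable [Fintype K] (hK : Fintype.card K = 2 ^ (2 * m + 1))
include hK

theorem surj_norm (v : K) : ∃ t : K, th K m t * t = v := by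
  have hm := isTheta hK
  rcases eq_or_ne v 0 with rfl | hv
  · exact ⟨0, by simp⟩
  let f : Kˣ →* Kˣ := (tu m) * MonoidHom.id Kˣ
  have hf : Function.Injective f := (injective_iff_map_eq_one _).2 fun x hx => by
    have e : (tu m) x * x = 1 := hx
    have e1 : (tu m) x = x⁻¹ := eq_inv_of_mul_eq_one_left e
    have e2 := units_theta hm x
    rw [e1, map_inv, e1, inv_inv, pow_two, mul_eq_left] at e2
    exact e2
  obtain ⟨x, hx⟩ := Finite.surjective_of_injective hf (Units.mk0 v hv)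
  exact ⟨x, congrArg Units.val hx⟩

theorem exists_two (hm1 : 1 ≤ m) : ∃ a ∈ twistedF4 K (2 ^ m), ∃ b ∈ twistedF4 K (2 ^ m),
    Subgroup.closure ({a, b} : Set (GL chevF4.Idx K)) = twistedF4 K (2 ^ m) := by
  classical
  have hm := isTheta hK
  obtain ⟨g, hg⟩ := IsCyclic.exists_generator (α := Kˣ)
  have hbij := Finite.surjective_of_injective (phi_injective (K := K) hm)
  have hχ : ∀ x : Kˣ, x ∈ Subgroup.zpowers (phi m g) := fun x => by
    obtain ⟨y, rfl⟩ := hbij x
    obtain ⟨k, rfl⟩ := hg y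
    exact ⟨k, (map_zpow _ _ _).symm⟩
  have hχ1 : (phi m g : Kˣ) ≠ 1 := fun e => by
    haveI : Nontrivial Kˣ := Fintype.one_lt_card_iff_nontrivial.1 (by
      rw [Fintype.card_units, hK]
      have : 2 ^ 3 ≤ 2 ^ (2 * m + 1) := Nat.pow_le_pow_right two_pos (by omega)
      omega)
    obtain ⟨x, hx⟩ := exists_ne (1 : Kˣ)
    have := hχ x
    rw [e, Subgroup.zpowers_one_eq_bot, Subgroup.mem_bot] at this
    exact hx this
  have hhG : hh m g ∈ twistedF4 K (2 ^ m) := T1_le_G1 hK ⟨_, rfl⟩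
  refine ⟨hh m g * yB m 1 0, Subgroup.mul_mem _ hhG (yB_mem_G1 _ _),
    yA m 1 * nn, Subgroup.mul_mem _ (yA_mem_G1 _)
      (Subgroup.mul_mem _ (sO_mem_G1 0) (sO_mem_G1 1)), ?_⟩
  set M := Subgroup.closure ({hh m g * yB m 1 0, yA m 1 * nn} : Set (GL chevF4.Idx K)) with hMdef
  refine le_antisymm ((Subgroup.closure_le _).2 ?_) ?_
  · rintro x (rfl | rfl)
    · exact Subgroup.mul_mem _ hhG (yB_mem_G1 _ _)
    · exact Subgroup.mul_mem _ (yA_mem_G1 _)
        (Subgroup.mul_mem _ (sO_mem_G1 0) (sO_mem_G1 1))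
  have hMa : hh m g * yB m 1 0 ∈ M := Subgroup.subset_closure (Or.inl rfl)
  have hMb : yA m 1 * nn ∈ M := Subgroup.subset_closure (Or.inr rfl)
  have hy : yB m (1 : K) 0 ∈ M := by
    have hN : hh m g ^ Fintype.card Kˣ = 1 := by
      rw [hh, ← map_pow, Prod.pow_mk, pow_card_eq_one, pow_card_eq_one]
      exact map_one _
    have h4 : yB m (1 : K) 0 ^ (Fintype.card Kˣ + 1) = 1 := by
      rw [Fintype.card_units, hK, Nat.sub_add_cancel (Nat.one_le_two_pow),
        show 2 * m + 1 = 2 + (2 * m - 1) by omega, pow_add, pow_mul,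
        show (2 : ℕ) ^ 2 = 4 from rfl, yB_pow_four hm, one_pow]
    have := Subgroup.inv_mem _ (Subgroup.pow_mem _ hMa (Fintype.card Kˣ))
    rwa [(hh_commute_yB hm g 1 0).mul_pow, hN, one_mul,
      show (yB m (1 : K) 0 ^ Fintype.card Kˣ)⁻¹ = yB m 1 0 from
        inv_eq_of_mul_eq_one_right (by rw [← pow_succ, h4])] at this
  have hh_mem : hh m g ∈ M := by
    simpa using Subgroup.mul_mem _ hMa (Subgroup.inv_mem _ hy)
  set c : K := (phi m g : K) with hc
  set c' : K := (((phi m g)⁻¹ : Kˣ) : K) with hc'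
  have hcc : c * c' = 1 := by rw [hc, hc', Units.mul_inv]
  have yA_inv : ∀ t : K, (yA m t)⁻¹ = yA m t := fun t => inv_eq_of_mul_eq_one_right (by
    rw [yA_add, CharTwo.add_self_eq_zero, yA, map_zero, W2_zero])
  set h' : GL chevF4.Idx K := nn * hh m g * nn⁻¹ with hh'
  have he : (yA m 1 * nn) * hh m g * (yA m 1 * nn)⁻¹ = yA m (1 + c') * h' := by
    calc (yA m 1 * nn) * hh m g * (yA m 1 * nn)⁻¹ = yA m 1 * (h' * (yA m 1)⁻¹) := by
          rw [hh']; group
      _ = _ := by rw [yA_inv, hh', nn_hh_conj hm, ← mul_assoc, yA_add, mul_one]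
  have he_mem : yA m (1 + c') * h' ∈ M := by
    rw [← he]
    exact Subgroup.mul_mem _ (Subgroup.mul_mem _ hMb hh_mem) (Subgroup.inv_mem _ hMb)
  have hs : yA m (c + c') ∈ M := by
    have h1 : hh m g * (yA m (1 + c') * h') * (hh m g)⁻¹ = yA m (c + 1) * h' := by
      rw [← mul_assoc, mul_assoc _ h', ← (hh_commute hm g).inv_left.eq, ← mul_assoc,
        hh_conj_yA hm, mul_add, mul_one, hcc]
    have := Subgroup.mul_mem _ (Subgroup.mul_mem _ (Subgroup.mul_mem _ hh_mem he_mem)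
      (Subgroup.inv_mem _ hh_mem)) (Subgroup.inv_mem _ he_mem)
    rwa [h1, mul_inv_rev, ← mul_assoc, mul_inv_cancel_right, yA_inv, yA_add,
      show c + 1 + (1 + c') = c + c' from by
        linear_combination two_eq (K := K)] at this
  have hne : c + c' ≠ 0 := fun e => by
    have e1 : c = c' := by
      have := eq_neg_of_add_eq_zero_left e
      rwa [neg_eq] at this
    rw [← e1] at hcc
    have h0 : (c + 1) ^ 2 = 0 := by
      rw [CharTwo.add_sq, pow_two, hcc, one_pow, CharTwo.add_self_eq_zero]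
    have := eq_neg_of_add_eq_zero_left (pow_eq_zero_iff two_ne_zero |>.1 h0)
    rw [neg_eq] at this
    exact hχ1 (Units.ext this)
  have hA : ∀ t : K, yA m t ∈ M := by
    have hpow : ∀ (k : ℤ) (t : K), hh m g ^ k * yA m t * (hh m g ^ k)⁻¹ =
        yA m (((phi m g ^ k : Kˣ) : K) * t) := by
      intro k
      induction k using Int.induction_on with
      | zero => simp
      | succ k ih =>
        intro t
        rw [zpow_add_one, zpow_add_one, Units.val_mul, mul_assoc ((phi m g ^ (k : ℤ) : Kˣ) : K)]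
        calc _ = hh m g ^ (k : ℤ) * (hh m g * yA m t * (hh m g)⁻¹) * (hh m g ^ (k : ℤ))⁻¹ := by
              group
          _ = _ := by rw [hh_conj_yA hm, ih]
      | pred k ih =>
        intro t
        rw [zpow_sub_one, zpow_sub_one]
        have e : (hh m g)⁻¹ * yA m t * hh m g = yA m ((((phi m g)⁻¹ : Kˣ) : K) * t) := by
          have := hh_conj_yA hm g ((((phi m g)⁻¹ : Kˣ) : K) * t)
          rw [← mul_assoc, Units.mul_inv, one_mul] at this
          rw [← this]; group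
        calc _ = hh m g ^ (-(k : ℤ)) * ((hh m g)⁻¹ * yA m t * hh m g) *
              (hh m g ^ (-(k : ℤ)))⁻¹ := by group
          _ = _ := by rw [e, ih, Units.val_mul, mul_assoc]
    intro t
    rcases eq_or_ne t 0 with rfl | ht
    · rw [yA, map_zero, W2_zero]; exact Subgroup.one_mem _
    obtain ⟨k, hk⟩ := hχ (Units.mk0 (t / (c + c')) (div_ne_zero ht hne))
    have := Subgroup.mul_mem _ (Subgroup.mul_mem _ (Subgroup.zpow_mem _ hh_mem k) hs)
      (Subgroup.inv_mem _ (Subgroup.zpow_mem _ hh_mem k))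
    rwa [hpow, show phi m g ^ k = Units.mk0 (t / (c + c')) _ from hk, Units.val_mk0,
      div_mul_cancel₀ _ hne] at this
  have hn : (nn : GL chevF4.Idx K) ∈ M := by
    simpa using Subgroup.mul_mem _ (Subgroup.inv_mem _ (hA 1)) hMb
  have hzA : ∀ t : K, sO 0 * yA m t * sO 0 ∈ M := fun t => by
    rw [← nn_pow_four_conj]
    exact Subgroup.mul_mem _ (Subgroup.mul_mem _ (Subgroup.pow_mem _ hn 4) (hA t))
      (Subgroup.inv_mem _ (Subgroup.pow_mem _ hn 4))
  have hsA : (sO 0 : GL chevF4.Idx K) ∈ M := by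
    have e := tor_fst_eq (m := m) (1 : Kˣ)
    rw [show ((1 : Kˣ), (1 : Kˣ)) = 1 from rfl, map_one, eq_comm, mul_eq_one_iff_eq_inv] at e
    have := Subgroup.inv_mem _
      (Subgroup.mul_mem _ (Subgroup.mul_mem _ (hA ((1 : Kˣ) : K)) (hzA ((1 : Kˣ) : K)⁻¹))
        (hA ((1 : Kˣ) : K)))
    rwa [e, inv_inv] at this
  have hsB : (sO 1 : GL chevF4.Idx K) ∈ M := by
    have := Subgroup.mul_mem _ (Subgroup.inv_mem _ hsA) hn
    rwa [nn, inv_mul_cancel_left] at this
  have hT : ∀ a : Kˣ, tor m (a, 1) ∈ M := fun a => by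
    rw [tor_fst_eq]
    exact Subgroup.mul_mem _ (Subgroup.mul_mem _ (Subgroup.mul_mem _ (hA _) (hzA _)) (hA _)) hsA
  have hB1 : ∀ t : K, ∃ u, yB m t u ∈ M := fun t => by
    rcases eq_or_ne t 0 with rfl | ht
    · exact ⟨0, by simp [yB, W4_zero]⟩
    obtain ⟨u', e⟩ := tor_fst_conj_yB hm (Units.mk0 t ht)⁻¹ 1 0
    refine ⟨u', ?_⟩
    rw [inv_inv, Units.val_mk0, mul_one] at e
    rw [← e]
    exact Subgroup.mul_mem _ (Subgroup.mul_mem _ (hT _) hy) (Subgroup.inv_mem _ (hT _))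
  have hB0 : ∀ v : K, yB m 0 v ∈ M := fun v => by
    obtain ⟨t, rfl⟩ := surj_norm hK v
    obtain ⟨u, hu⟩ := hB1 t
    rw [← yB_sq hm t u]
    exact Subgroup.mul_mem _ hu hu
  have hB : ∀ t v : K, yB m t v ∈ M := fun t v => by
    obtain ⟨u, hu⟩ := hB1 t
    have := Subgroup.mul_mem _ hu (hB0 (u + v))
    rwa [yB_add, ← add_assoc, CharTwo.add_self_eq_zero, zero_add] at this
  rw [G1_eq, Subgroup.closure_le]
  rintro x (⟨t, rfl | rfl⟩ | ⟨t, u, rfl | rfl⟩)
  exacts [hA t, hzA t, hB t u, Subgroup.mul_mem _ (Subgroup.mul_mem _ hsB (hB t u)) hsB]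

end Finite

end TwoGen

theorem two_generated {K : Type u} [Field K] [Fintype K] {m : ℕ} (hm : 1 ≤ m)
    (hK : Fintype.card K = 2 ^ (2 * m + 1)) :
    ∃ a b : ↥(twistedF4 K (2 ^ m)),
      Subgroup.closure ({a, b} : Set ↥(twistedF4 K (2 ^ m))) = ⊤ := by
  haveI : CharP K 2 := charP_two hK
  obtain ⟨a, ha, b, hb, h⟩ := TwoGen.exists_two hK hm
  refine ⟨⟨a, ha⟩, ⟨b, hb⟩, ?_⟩
  apply Subgroup.map_injective (twistedF4 K (2 ^ m)).subtype_injective
  rw [MonoidHom.map_closure, Set.image_pair, ← MonoidHom.range_eq_map, Subgroup.range_subtype]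
  exact h

end ReeF4

end Cfsg.Agent.Chev
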