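import Cfsg.Agent.Chev.All
import Cfsg.Agent.Chev.Bruhat
import Cfsg.Agent.Chev.Functorial
import Cfsg.Prelude.Def_LieTwisted
import Mathlib.Tactic.LinearCombination
import Mathlib.Algebra.CharP.Two

/-!
The monomial elements and the two fundamental pieces of `U` of `F₄` in characteristic two.
-/

set_option autoImplicit false
set_option maxRecDepth 100000

namespace Cfsg.Agent.Chev

open Cfsg.Lie
open scoped MatrixGroups

universe u

namespace ReeF4

variable {K : Type u} [Field K]

/-- A root element of `F₄`. -/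
abbrev X (r : ℕ) (t : K) : GL chevF4.Idx K := xG facts_chevF4 r t

theorem X_mem_group (r : ℕ) (t : K) : X r t ∈ chevF4.group K := xG_mem_group facts_chevF4 r t

/-- The pairs of roots which commute in characteristic two. -/
def cPairs : List (ℕ × ℕ) :=
  [(33, 24), (14, 23), (33, 23), (24, 14), (27, 28), (27, 30), (25, 28), (25, 30), (28, 30)]

theorem commute_tables :
    ∀ p ∈ cPairs, (chevF4.commTerms p.1 p.2).all fun c => c.2.1 % 2 == 0 := by decide +kernel

theorem commute_ne : ∀ p ∈ cPairs,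
    p.1 < chevF4.nroots ∧ p.2 < chevF4.nroots ∧ p.2 ≠ p.1 ∧ p.2 ≠ chevF4.neg p.1 := by
  decide +kernel

theorem comm_25_27 : chevF4.commTerms 27 25 = [(28, -1, 1, 1), (30, -1, 2, 1)] ∧
    (25 : ℕ) ≠ chevF4.neg 27 := by decide +kernel

theorem simple_vals : chevF4.simple 0 = 33 ∧ chevF4.simple 1 = 27 ∧ chevF4.simple 2 = 25 ∧
    chevF4.simple 3 = 24 := by decide +kernel

theorem neg_vals : chevF4.neg 33 = 14 ∧ chevF4.neg 27 = 20 ∧ chevF4.neg 25 = 22 ∧
    chevF4.neg 24 = 23 := by decide +kernel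

variable [CharP K 2]

theorem two_eq : (2 : K) = 0 := by exact_mod_cast CharP.cast_eq_zero K 2

theorem neg_eq (a : K) : -a = a := by linear_combination (-a) * two_eq (K := K)

theorem X_inv (r : ℕ) (t : K) : (X r t)⁻¹ = X r t := by rw [X, xG_inv, neg_eq]

theorem X_comm {r s : ℕ} (h : (r, s) ∈ cPairs) (t v : K) : Commute (X s v) (X r t) := by
  obtain ⟨h1, h2, h3, h4⟩ := commute_ne (r, s) h
  have hw : wordG facts_chevF4 (chevF4.commWord K r s t v) = 1 := by
    have hall := commute_tables (r, s) h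
    simp only [List.all_eq_true, beq_iff_eq] at hall
    rw [wordG]
    refine List.prod_eq_one fun y hy => ?_
    obtain ⟨p, hp, rfl⟩ := List.mem_map.1 hy
    obtain ⟨c, hc, rfl⟩ := List.mem_map.1 hp
    have h0 : ((c.2.1 : ℤ) : K) = 0 :=
      (CharP.intCast_eq_zero_iff K 2 _).2 (Int.dvd_of_emod_eq_zero (hall c hc))
    simp [h0, xG_zero]
  have := xG_comm facts_chevF4 h1 h2 h3 h4 t v
  rw [hw, mul_one] at this
  exact this

theorem X25_X27 (a b : K) :
    X 25 b * X 27 a = X 27 a * X 25 b * X 28 (a * b) * X 30 (a ^ 2 * b) := by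
  have h := xG_comm facts_chevF4 (r := 27) (s := 25) (by decide)
    (by decide) (by omega) comm_25_27.2 a b
  rw [ChevalleyDatum.commWord, comm_25_27.1] at h
  simp only [List.map_cons, List.map_nil, wordG, List.prod_cons, List.prod_nil, mul_one,
    Int.cast_neg, Int.cast_one, neg_eq, one_mul, pow_one, ← mul_assoc] at h
  exact h

/-- An element of the piece of type `A₁ × A₁`. -/
def W2 (a b : K) : GL chevF4.Idx K := X 33 a * X 24 b

theorem W2_mul (a b a' b' : K) : W2 a b * W2 a' b' = W2 (a + a') (b + b') := by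
  have h := (X_comm (r := 33) (s := 24) (by decide) a' b).eq
  simp only [W2, ← mul_assoc]
  rw [mul_assoc _ (X 24 b) (X 33 a'), h, ← mul_assoc, xG_mul, mul_assoc _ (X 24 b), xG_mul]

omit [CharP K 2] in
theorem W2_zero : W2 (0 : K) 0 = 1 := by simp [W2, xG_zero]

/-- An element of the piece of type `B₂`. -/
def W4 (a b c d : K) : GL chevF4.Idx K := X 27 a * X 25 b * X 28 c * X 30 d

theorem W4_mul (a b c d a' b' c' d' : K) :
    W4 a b c d * W4 a' b' c' d' =
      W4 (a + a') (b + b') (c + c' + a' * b) (d + d' + a' ^ 2 * b) := by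
  have hdA := (X_comm (r := 27) (s := 30) (by decide) a' d).eq
  have hcA := (X_comm (r := 27) (s := 28) (by decide) a' c).eq
  have hdB := (X_comm (r := 25) (s := 30) (by decide) b' (a' ^ 2 * b + d)).eq
  have hcB := (X_comm (r := 25) (s := 28) (by decide) b' (a' * b + c)).eq
  have hdC := (X_comm (r := 28) (s := 30) (by decide) c (a' ^ 2 * b)).eq
  have hdC' := (X_comm (r := 28) (s := 30) (by decide) c' (a' ^ 2 * b + d)).eq
  simp only [W4, ← mul_assoc]
  rw [mul_assoc _ (X 30 d) (X 27 a'), hdA, ← mul_assoc, mul_assoc _ (X 28 c) (X 27 a'), hcA,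
    ← mul_assoc, mul_assoc _ (X 25 b) (X 27 a'), X25_X27]
  simp only [← mul_assoc]
  rw [xG_mul, mul_assoc _ (X 30 (a' ^ 2 * b)) (X 28 c), hdC, ← mul_assoc,
    mul_assoc _ (X 28 (a' * b)) (X 28 c), xG_mul, mul_assoc _ (X 30 (a' ^ 2 * b)) (X 30 d), xG_mul,
    mul_assoc _ (X 30 (a' ^ 2 * b + d)) (X 25 b'), hdB, ← mul_assoc,
    mul_assoc _ (X 28 (a' * b + c)) (X 25 b'), hcB, ← mul_assoc, mul_assoc _ (X 25 b) (X 25 b'),
    xG_mul, mul_assoc _ (X 30 (a' ^ 2 * b + d)) (X 28 c'), hdC', ← mul_assoc,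
    mul_assoc _ (X 28 (a' * b + c)) (X 28 c'), xG_mul,
    mul_assoc _ (X 30 (a' ^ 2 * b + d)) (X 30 d'), xG_mul]
  congr 2
  · congr 1; ring
  · ring

omit [CharP K 2] in
theorem W4_zero : W4 (0 : K) 0 0 0 = 1 := by simp [W4, xG_zero]

omit [CharP K 2] in
theorem X25_eq (t : K) : X 25 t = W4 0 t 0 0 := by simp [W4, xG_zero]

omit [CharP K 2] in
theorem X27_eq (t : K) : X 27 t = W4 t 0 0 0 := by simp [W4, xG_zero]

omit [CharP K 2] in
theorem X28_eq (t : K) : X 28 t = W4 0 0 t 0 := by simp [W4, xG_zero]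

omit [CharP K 2] in
theorem X30_eq (t : K) : X 30 t = W4 0 0 0 t := by simp [W4, xG_zero]

omit [CharP K 2] in
theorem prodFrom_single4 {t : ℕ → K} (h : ∀ r, t r ≠ 0 → r ∈ [24, 25, 27, 28, 30, 33]) :
    prodFrom facts_chevF4 24 t = X 24 (t 24) * X 25 (t 25) * X 27 (t 27) * X 28 (t 28) *
      X 30 (t 30) * X 33 (t 33) := by
  have h0 : ∀ r, r ∉ [24, 25, 27, 28, 30, 33] → t r = 0 := fun r hr => by
    by_contra hne; exact hr (h r hne)
  have e : List.range' 24 (chevF4.nroots - 24) = [24, 25, 26, 27, 28, 29, 30, 31, 32, 33, 34, 35,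
      36, 37, 38, 39, 40, 41, 42, 43, 44, 45, 46, 47] := by decide +kernel
  rw [prodFrom, e]
  simp only [List.map_cons, List.map_nil, wordG, List.prod_cons, List.prod_nil, mul_one]
  simp only [h0 26 (by decide), h0 29 (by decide), h0 31 (by decide), h0 32 (by decide),
    h0 34 (by decide), h0 35 (by decide), h0 36 (by decide), h0 37 (by decide), h0 38 (by decide),
    h0 39 (by decide), h0 40 (by decide), h0 41 (by decide), h0 42 (by decide), h0 43 (by decide),
    h0 44 (by decide), h0 45 (by decide), h0 46 (by decide), h0 47 (by decide), xG_zero, one_mul,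
    mul_one, mul_assoc]

/-- The coordinates of a product of six factors. -/
def coord (a b c d e f : K) (r : ℕ) : K :=
  if r = 24 then a else if r = 25 then b else if r = 27 then c else if r = 28 then d
  else if r = 30 then e else if r = 33 then f else 0

omit [CharP K 2] in
theorem six_eq (a b c d e f : K) : X 24 a * X 25 b * X 27 c * X 28 d * X 30 e * X 33 f =
    prodFrom facts_chevF4 24 (coord a b c d e f) := by
  rw [prodFrom_single4]
  · simp [coord]
  · intro r hr
    simp only [coord] at hr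
    simp only [List.mem_cons, List.not_mem_nil, or_false]
    by_contra hne
    push Not at hne
    simp [hne] at hr

omit [CharP K 2] in
theorem six_injective {a b c d e f a' b' c' d' e' f' : K}
    (h : X 24 a * X 25 b * X 27 c * X 28 d * X 30 e * X 33 f =
      X 24 a' * X 25 b' * X 27 c' * X 28 d' * X 30 e' * X 33 f') :
    a = a' ∧ b = b' ∧ c = c' ∧ d = d' ∧ e = e' ∧ f = f' := by
  rw [six_eq, six_eq] at h
  have hh := prodFrom_inj facts_chevF4 _ 24 rfl (by decide) h
  have h1 := hh 24 le_rfl (by decide)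
  have h2 := hh 25 (by omega) (by decide)
  have h3 := hh 27 (by omega) (by decide)
  have h4 := hh 28 (by omega) (by decide)
  have h5 := hh 30 (by omega) (by decide)
  have h6 := hh 33 (by omega) (by decide)
  simp [coord] at h1 h2 h3 h4 h5 h6
  exact ⟨h1, h2, h3, h4, h5, h6⟩

theorem W2_injective {a b a' b' : K} (h : W2 a b = W2 a' b') : a = a' ∧ b = b' := by
  have e : ∀ x y : K, W2 x y = X 24 y * X 25 0 * X 27 0 * X 28 0 * X 30 0 * X 33 x := fun x y => by
    have hc := (X_comm (r := 33) (s := 24) (by decide) x y).eq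
    simp [W2, xG_zero, hc]
  rw [e, e] at h
  obtain ⟨h1, -, -, -, -, h6⟩ := six_injective h
  exact ⟨h6, h1⟩

theorem W4_injective {a b c d a' b' c' d' : K} (h : W4 a b c d = W4 a' b' c' d') :
    a = a' ∧ b = b' ∧ c = c' ∧ d = d' := by
  have e : ∀ x y z w : K, W4 x y z w =
      X 24 0 * X 25 y * X 27 x * X 28 (z + x * y) * X 30 (w + x ^ 2 * y) * X 33 0 := by
    intro x y z w
    simp only [xG_zero, one_mul, mul_one, X25_eq y, X27_eq x, X28_eq (z + x * y),
      X30_eq (w + x ^ 2 * y), W4_mul, add_zero, zero_add, mul_zero, zero_mul]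
    congr 1
    · linear_combination (-(x * y)) * two_eq (K := K)
    · linear_combination (-(x ^ 2 * y)) * two_eq (K := K)
  rw [e, e] at h
  obtain ⟨-, hy, hx, hz, hw, -⟩ := six_injective h
  subst hx hy
  exact ⟨rfl, rfl, add_right_cancel hz, add_right_cancel hw⟩

theorem exists_W2 {S : Set (GL chevF4.Idx K)}
    (hS : ∀ g ∈ S, ∃ r t, r ∈ [24, 33] ∧ g = X r t) {g : GL chevF4.Idx K}
    (hg : g ∈ Subgroup.closure S) : ∃ a b, g = W2 a b := by
  induction hg using Subgroup.closure_induction with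
  | mem x hx =>
    obtain ⟨r, t, hr, rfl⟩ := hS x hx
    simp only [List.mem_cons, List.not_mem_nil, or_false] at hr
    rcases hr with rfl | rfl
    · exact ⟨0, t, by simp [W2, xG_zero]⟩
    · exact ⟨t, 0, by simp [W2, xG_zero]⟩
  | one => exact ⟨0, 0, W2_zero.symm⟩
  | mul x y _ _ hx hy =>
    obtain ⟨a, b, rfl⟩ := hx
    obtain ⟨a', b', rfl⟩ := hy
    exact ⟨_, _, W2_mul a b a' b'⟩
  | inv x _ hx =>
    obtain ⟨a, b, rfl⟩ := hx
    refine ⟨a, b, inv_eq_of_mul_eq_one_right ?_⟩
    rw [W2_mul, ← W2_zero (K := K)]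
    congr 1 <;> exact CharTwo.add_self_eq_zero _

theorem exists_W4 {S : Set (GL chevF4.Idx K)}
    (hS : ∀ g ∈ S, ∃ r t, r ∈ [25, 27, 28, 30] ∧ g = X r t) {g : GL chevF4.Idx K}
    (hg : g ∈ Subgroup.closure S) : ∃ a b c d, g = W4 a b c d := by
  induction hg using Subgroup.closure_induction with
  | mem x hx =>
    obtain ⟨r, t, hr, rfl⟩ := hS x hx
    simp only [List.mem_cons, List.not_mem_nil, or_false] at hr
    rcases hr with rfl | rfl | rfl | rfl
    · exact ⟨_, _, _, _, X25_eq t⟩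
    · exact ⟨_, _, _, _, X27_eq t⟩
    · exact ⟨_, _, _, _, X28_eq t⟩
    · exact ⟨_, _, _, _, X30_eq t⟩
  | one => exact ⟨0, 0, 0, 0, W4_zero.symm⟩
  | mul x y _ _ hx hy =>
    obtain ⟨a, b, c, d, rfl⟩ := hx
    obtain ⟨a', b', c', d', rfl⟩ := hy
    exact ⟨_, _, _, _, W4_mul a b c d a' b' c' d'⟩
  | inv x _ hx =>
    obtain ⟨a, b, c, d, rfl⟩ := hx
    refine ⟨a, b, c + a * b, d + a ^ 2 * b, inv_eq_of_mul_eq_one_right ?_⟩
    rw [W4_mul, ← W4_zero (K := K)]
    congr 1
    · exact CharTwo.add_self_eq_zero _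
    · exact CharTwo.add_self_eq_zero _
    · linear_combination (c + a * b) * two_eq (K := K)
    · linear_combination (d + a ^ 2 * b) * two_eq (K := K)

theorem nS_sq (i : Fin chevF4.rank) :
    (nS facts_chevF4 (i : ℕ) : GL chevF4.Idx K) * nS facts_chevF4 (i : ℕ) = 1 := by
  show nG facts_chevF4 (chevF4.simple i) (1 : K) * nG facts_chevF4 (chevF4.simple i) (1 : K) = 1
  nth_rewrite 1 [show (1 : K) = -1 from (neg_eq 1).symm]
  rw [← nG_inv, inv_mul_cancel]

theorem nWord_x (w : List (Fin chevF4.rank)) (r : Fin chevF4.nroots) (t : K) :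
    nWord facts_chevF4 w * xG facts_chevF4 r t =
      xG facts_chevF4 (pWord facts_chevF4.{u} w r) t * nWord facts_chevF4 w := by
  induction w with
  | nil => simp [nWord, pWord]
  | cons i w ih =>
    have h := nS_conj_x facts_chevF4.{u} i.2 (pWord facts_chevF4.{u} w r).2 t
    have he : (etaN facts_chevF4.{u} (i : ℕ) (pWord facts_chevF4.{u} w r : ℕ) : K) = 1 := by
      rcases (etaN_spec facts_chevF4.{u} i.2).1 _ (pWord facts_chevF4.{u} w r).2 with e | e <;>
        simp [e, neg_eq]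
    rw [he, one_mul] at h
    rw [nWord_cons, mul_assoc, ih, ← mul_assoc, h, mul_assoc, ← nWord_cons, pWord_cons,
      Equiv.Perm.mul_apply]
    rfl

/-- The representatives depend on the permutation only. -/
theorem nWord_congr {v w : List (Fin chevF4.rank)}
    (h : pWord facts_chevF4.{u} v = pWord facts_chevF4.{u} w) :
    (nWord facts_chevF4 v : GL chevF4.Idx K) = nWord facts_chevF4 w := by
  have hd : (nWord facts_chevF4 v : GL chevF4.Idx K)⁻¹ * nWord facts_chevF4 w ∈
      chevF4.diagonalSubgroup K := by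
    refine mem_diagonal_of_isMon_one facts_chevF4
      (Subgroup.mul_mem _ (Subgroup.inv_mem _ (nWord_mem facts_chevF4 v))
        (nWord_mem facts_chevF4 w)) fun r => ⟨1, one_ne_zero, fun t => ?_⟩
    rw [Equiv.Perm.one_apply, one_mul, mul_assoc, nWord_x w r t, ← h, ← mul_assoc, ← mul_assoc]
    congr 1
    rw [eq_mul_inv_iff_mul_eq, mul_assoc, ← nWord_x v r t]
    group
  obtain ⟨c, hc⟩ := (mem_diagonal_iff facts_chevF4).1 hd
  have hone : ∀ r : Fin chevF4.nroots, chiU c (r : ℕ) = 1 := fun r => by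
    have e := torusHom_conj facts_chevF4 c r.2 (1 : K)
    have e2 : (torusHom c : GL chevF4.Idx K) * xG facts_chevF4 r (1 : K) =
        xG facts_chevF4 r (1 : K) * torusHom c := by
      rw [hc, mul_assoc, nWord_x w r, ← h, ← mul_assoc, ← mul_assoc]
      congr 1
      rw [eq_mul_inv_iff_mul_eq, mul_assoc, ← nWord_x v r]
      group
    rw [e2, mul_one, mul_left_inj] at e
    have e3 := congrArg Units.val e
    rw [xG_val, xG_val] at e3
    exact Units.ext (eq_of_x_eq facts_chevF4 r.2 one_ne_zero e3).2.symm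
  rw [← mul_inv_cancel_left (nWord facts_chevF4 v) (nWord facts_chevF4 w), ← hc,
    (torusHom_eq_one_iff c).2 hone, mul_one]

theorem torus_conj {n : GL chevF4.Idx K} (w : List (Fin chevF4.rank))
    (hn : n = nWord facts_chevF4 w) {c c' : Fin chevF4.rank → Kˣ}
    (h : ∀ r : Fin chevF4.nroots, chiU c' (pWord facts_chevF4.{u} w r : ℕ) = chiU c (r : ℕ)) :
    n * torusHom c = torusHom c' * n := by
  subst hn
  obtain ⟨d, hd⟩ := nWord_torus facts_chevF4 w c (F := K)
  rw [hd]
  congr 1
  refine inv_mul_eq_one.1 ?_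
  rw [← map_inv, ← map_mul, torusHom_eq_one_iff]
  intro s
  obtain ⟨r, rfl⟩ := (pWord facts_chevF4.{u} w).surjective s
  set s := pWord facts_chevF4.{u} w r with hs
  have key : xG facts_chevF4 (s : ℕ) (chiU c (r : ℕ) : K) =
      xG facts_chevF4 (s : ℕ) (chiU d (s : ℕ) : K) := by
    refine mul_right_cancel (b := torusHom d * nWord facts_chevF4 w) ?_
    calc xG facts_chevF4 (s : ℕ) (chiU c (r : ℕ) : K) * (torusHom d * nWord facts_chevF4 w)
        = xG facts_chevF4 (s : ℕ) ((chiU c (r : ℕ) : K) * 1) * nWord facts_chevF4 w * torusHom c := by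
          rw [mul_one, mul_assoc _ (nWord facts_chevF4 w), hd]
      _ = nWord facts_chevF4 w * (torusHom c * xG facts_chevF4 r (1 : K)) := by
          rw [← nWord_x w r, torusHom_conj facts_chevF4 c r.2, mul_assoc]
      _ = torusHom d * (xG facts_chevF4 (s : ℕ) (1 : K) * nWord facts_chevF4 w) := by
          rw [← mul_assoc, hd, mul_assoc, nWord_x w r]
      _ = _ := by rw [← mul_assoc, torusHom_conj facts_chevF4 d s.2, mul_one, mul_assoc]
  have e3 := congrArg Units.val key
  rw [xG_val, xG_val] at e3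
  have e : chiU c (r : ℕ) = chiU d (s : ℕ) :=
    Units.ext (eq_of_x_eq facts_chevF4 s.2 (Units.ne_zero _) e3).2
  simp only [chiU, Pi.mul_apply, Pi.inv_apply, mul_zpow, inv_zpow, Finset.prod_mul_distrib,
    Finset.prod_inv_distrib] at *
  rw [h r, e, inv_mul_cancel]

end ReeF4

end Cfsg.Agent.Chev
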