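import Cfsg.Agent.Chev.ReeF4.Sigma
import Cfsg.Agent.Chev.MinCoset

/-!
The elements of the Weyl group of `F₄` commuting with the symmetry of the roots.
-/

set_option autoImplicit false
set_option maxRecDepth 100000

namespace Cfsg.Agent.Chev

open Cfsg.Lie

namespace ReeF4

/-- The nodes of the two orbits, as reduced words of the two fundamental elements. -/
def orb (a : Fin 2) : List (Fin chevF4.rank) :=
  ([[0, 3], [1, 2, 1, 2]] : List (List (Fin 4))).getD a []

/-- The two fundamental elements. -/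
def wA (a : Fin 2) : Equiv.Perm (Fin chevF4.nroots) := pWord facts_chevF4.{0} (orb a)

/-- The word in fundamental reflections of a word in orbits. -/
def flat (ws : List (Fin 2)) : List (Fin chevF4.rank) := ws.flatMap orb

/-- The permutation of a word in orbits. -/
def pW (ws : List (Fin 2)) : Equiv.Perm (Fin chevF4.nroots) := pWord facts_chevF4.{0} (flat ws)

/-- The nodes of an orbit. -/
def nodes (a : Fin 2) : Finset (Fin chevF4.rank) := (orb a).toFinset

/-- The sixteen words. -/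
def wd (k : Fin 16) : List (Fin 2) :=
  ([[], [0], [1], [0, 1], [1, 0], [0, 1, 0], [1, 0, 1], [0, 1, 0, 1], [1, 0, 1, 0],
    [0, 1, 0, 1, 0], [1, 0, 1, 0, 1], [0, 1, 0, 1, 0, 1], [1, 0, 1, 0, 1, 0],
    [0, 1, 0, 1, 0, 1, 0], [1, 0, 1, 0, 1, 0, 1], [0, 1, 0, 1, 0, 1, 0, 1]] :
      List (List (Fin 2))).getD k []

/-- The lengths of the sixteen elements, in powers of `q`. -/
def nN (k : Fin 16) : ℕ :=
  ([0, 1, 2, 3, 3, 4, 5, 6, 6, 7, 8, 9, 9, 10, 11, 12] : List ℕ).getD k 0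

theorem pW_nil : pW [] = 1 := rfl

theorem pW_cons (a : Fin 2) (ws : List (Fin 2)) : pW (a :: ws) = wA a * pW ws := by
  simp [pW, flat, wA, pWord_append]

theorem pW_append (us vs : List (Fin 2)) : pW (us ++ vs) = pW us * pW vs := by
  simp [pW, flat, pWord_append]

theorem pW_single (a : Fin 2) : pW [a] = wA a := by rw [pW_cons, pW_nil, mul_one]

theorem flat_single (a : Fin 2) : flat [a] = orb a := by simp [flat]

theorem wA_sq_pt : ∀ a, ∀ r, wA a (wA a r) = r := by decide +kernel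

theorem wA_sq (a : Fin 2) : wA a * wA a = 1 := Equiv.ext fun r => wA_sq_pt a r

theorem wA_inv (a : Fin 2) : (wA a)⁻¹ = wA a := inv_eq_of_mul_eq_one_right (wA_sq a)

theorem rho_wA_pt : ∀ a, ∀ r, rho (wA a r) = wA a (rho r) := by decide +kernel

theorem rho_wA (a : Fin 2) : Commute rho (wA a) := Equiv.ext fun r => rho_wA_pt a r

theorem node_facts : ∀ i : Fin chevF4.rank, ∃ a, i ∈ orb a ∧
    ∀ j ∈ orb a, j = i ∨ j = sw i := by decide +kernel

theorem orb_pair : ∀ a, ∀ i ∈ orb a, ∀ j ∈ orb a, j = i ∨ j = sw i := by decide +kernel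

theorem wA_node : ∀ a, ∀ i ∈ orb a, ∃ j ∈ orb a,
    wA a (sRoot facts_chevF4.{0} i) = negF facts_chevF4.{0} (sRoot facts_chevF4.{0} j) := by
  decide +kernel

theorem wA_inverted : ∀ a : Fin 2, ∀ r : Fin chevF4.nroots, half chevF4 ≤ (r : ℕ) →
    (((wA a r : ℕ) < half chevF4 ↔
      (r : ℕ) ∈ ([[24, 33], [25, 27, 28, 30]] : List (List ℕ)).getD a []) ∧
    ((wA a r : ℕ) < half chevF4 ↔ ∀ j : Fin chevF4.rank, j ∉ orb a → coef chevF4 r j = 0)) := by
  decide +kernel

theorem wA_values : (∀ r : Fin chevF4.nroots, ((r : ℕ) = 33 → (wA 0 r : ℕ) = 14) ∧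
      ((r : ℕ) = 24 → (wA 0 r : ℕ) = 23)) ∧
    (∀ r : Fin chevF4.nroots, ((r : ℕ) = 27 → (wA 1 r : ℕ) = 20) ∧
      ((r : ℕ) = 25 → (wA 1 r : ℕ) = 22) ∧ ((r : ℕ) = 28 → (wA 1 r : ℕ) = 19) ∧
      ((r : ℕ) = 30 → (wA 1 r : ℕ) = 17)) := by
  decide +kernel

theorem wd_step : ∀ k : Fin 16, ∀ a : Fin 2, ∃ k' : Fin 16,
    ∀ r, pW (wd k ++ [a]) r = pW (wd k') r := by decide +kernel

theorem wd_inj : ∀ k k' : Fin 16, (∀ r, pW (wd k) r = pW (wd k') r) → k = k' := by decide +kernel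

theorem wd_len : ∀ k : Fin 16, (Finset.univ.filter fun r : Fin chevF4.nroots =>
    half chevF4 ≤ (r : ℕ) ∧ (pW (wd k) r : ℕ) < half chevF4).card = 2 * nN k := by
  decide +kernel

theorem wd_longest : ∀ r : Fin chevF4.nroots, half chevF4 ≤ (r : ℕ) →
    (pW (wd 15) r : ℕ) < half chevF4 := by decide +kernel

theorem wd_rank_one : ∀ a : Fin 2, ∀ k : Fin 16,
    (∀ r : Fin chevF4.nroots, half chevF4 ≤ (r : ℕ) → (pW (wd k) r : ℕ) < half chevF4 →
      (wA a r : ℕ) < half chevF4) → (k : ℕ) = 0 ∨ (k : ℕ) = a + 1 := by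
  decide +kernel

theorem wd_small : wd 0 = [] ∧ ∀ a : Fin 2, ∀ k : Fin 16, (k : ℕ) = a + 1 → wd k = [a] := by
  decide +kernel

/-- The elements of the Weyl group commuting with the symmetry. -/
def InW1 (p : Equiv.Perm (Fin chevF4.nroots)) : Prop :=
  p ∈ weyl facts_chevF4.{0} ∧ Commute rho p

theorem inW1_one : InW1 1 := ⟨Subgroup.one_mem _, Commute.one_right _⟩

theorem inW1_wA (a : Fin 2) : InW1 (wA a) := ⟨pWord_mem _ _, rho_wA a⟩

theorem InW1.mul {p q : Equiv.Perm (Fin chevF4.nroots)} (hp : InW1 p) (hq : InW1 q) :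
    InW1 (p * q) := ⟨Subgroup.mul_mem _ hp.1 hq.1, hp.2.mul_right hq.2⟩

theorem InW1.inv {p : Equiv.Perm (Fin chevF4.nroots)} (hp : InW1 p) : InW1 p⁻¹ :=
  ⟨Subgroup.inv_mem _ hp.1, hp.2.inv_right⟩

theorem inW1_pW (ws : List (Fin 2)) : InW1 (pW ws) := by
  induction ws with
  | nil => exact inW1_one
  | cons a ws ih => rw [pW_cons]; exact (inW1_wA a).mul ih

theorem node_sign {p : Equiv.Perm (Fin chevF4.nroots)} (hp : InW1 p) {a : Fin 2}
    {i j : Fin chevF4.rank} (hi : i ∈ orb a) (hj : j ∈ orb a) :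
    half chevF4 ≤ (p (sRoot facts_chevF4.{0} i) : ℕ) ↔
      half chevF4 ≤ (p (sRoot facts_chevF4.{0} j) : ℕ) := by
  rcases orb_pair a i hi j hj with rfl | rfl
  · exact Iff.rfl
  · have e : sRoot facts_chevF4.{0} (sw i) = rho (sRoot facts_chevF4.{0} i) :=
      Fin.ext (node_tables i (sRoot facts_chevF4.{0} i) rfl).1.symm
    rw [e, ← Equiv.Perm.mul_apply, ← hp.2.eq, Equiv.Perm.mul_apply]
    exact (rho_pos _).symm

theorem mem_nodes {a : Fin 2} {i : Fin chevF4.rank} : i ∈ nodes a ↔ i ∈ orb a :=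
  List.mem_toFinset

theorem wA_mem_wJ (a : Fin 2) : wA a ∈ wJ facts_chevF4.{0} (nodes a) :=
  pWord_mem_J _ fun _ hi => mem_nodes.2 hi

theorem isMin_iff {q : Equiv.Perm (Fin chevF4.nroots)} (hq : InW1 q) {a : Fin 2}
    {i : Fin chevF4.rank} (hi : i ∈ orb a)
    (h : half chevF4 ≤ (q (sRoot facts_chevF4.{0} i) : ℕ)) :
    IsMin facts_chevF4.{0} (nodes a) q :=
  ⟨hq.1, fun _ hj => (node_sign hq hi (mem_nodes.1 hj)).1 h⟩

theorem isMin_or (a : Fin 2) {p : Equiv.Perm (Fin chevF4.nroots)} (hp : InW1 p) :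
    IsMin facts_chevF4.{0} (nodes a) p ∨ IsMin facts_chevF4.{0} (nodes a) (p * wA a) := by
  by_cases h : ∀ j ∈ nodes a, half chevF4 ≤ (p (sRoot facts_chevF4.{0} j) : ℕ)
  · exact Or.inl ⟨hp.1, h⟩
  push Not at h
  obtain ⟨i, hi, hn⟩ := h
  refine Or.inr ⟨(hp.mul (inW1_wA a)).1, fun l hl => ?_⟩
  obtain ⟨j, hj, e⟩ := wA_node a l (mem_nodes.1 hl)
  rw [Equiv.Perm.mul_apply, e, weyl_negF _ hp.1, pos_negF_iff]
  exact not_le.1 fun hc => not_le.2 hn ((node_sign hp hj (mem_nodes.1 hi)).1 hc)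

/-- A minimal representative keeps the inverted roots of the fundamental element positive. -/
theorem isMin_pos {q : Equiv.Perm (Fin chevF4.nroots)} {a : Fin 2}
    (hq : IsMin facts_chevF4.{0} (nodes a) q) {r : Fin chevF4.nroots}
    (h1 : half chevF4 ≤ (r : ℕ)) (h2 : (wA a r : ℕ) < half chevF4) :
    half chevF4 ≤ (q r : ℕ) :=
  pos_of_isMin _ hq (fun j hj => (wA_inverted a r h1).2.1 h2 j fun h => hj (mem_nodes.2 h)) h1

/-- Induction along the two fundamental elements. -/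
theorem w1_induction (P : Equiv.Perm (Fin chevF4.nroots) → Prop) (h1 : P 1)
    (hstep : ∀ q a, InW1 q → IsMin facts_chevF4.{0} (nodes a) q → P q → P (q * wA a))
    {p : Equiv.Perm (Fin chevF4.nroots)} (hp : InW1 p) : P p := by
  suffices H : ∀ N p, invCard p = N → InW1 p → P p from H _ p rfl hp
  intro N
  induction N using Nat.strong_induction_on with
  | _ N ih =>
    intro p hN hp
    by_cases hall : ∀ i, half chevF4 ≤ (p (sRoot facts_chevF4.{0} i) : ℕ)
    · rw [eq_one_of_pos facts_chevF4.{0} hp.1 hall]; exact h1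
    push Not at hall
    obtain ⟨i, hi⟩ := hall
    obtain ⟨a, ha, -⟩ := node_facts i
    have hq : IsMin facts_chevF4.{0} (nodes a) (p * wA a) :=
      (isMin_or a hp).resolve_left fun h => not_le.2 hi (h.2 i (mem_nodes.2 ha))
    have hqW : InW1 (p * wA a) := hp.mul (inW1_wA a)
    have hc := invCard_min_split facts_chevF4.{0} hq (wA_mem_wJ a)
    have e : p * wA a * wA a = p := by rw [mul_assoc, wA_sq, mul_one]
    rw [e] at hc
    obtain ⟨j, -, hj⟩ := wA_node a i ha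
    have hpos : 0 < invCard (wA a) := invCard_pos_of_inverted
      (facts_chevF4.{0}.simple_pos i i.2) (r := sRoot facts_chevF4.{0} i) (by
        rw [hj]
        exact (neg_lt_half_iff facts_chevF4.{0} (sRoot facts_chevF4.{0} j).2).2
          (facts_chevF4.{0}.simple_pos j j.2))
    have := hstep _ a hqW hq (ih _ (by omega) _ rfl hqW)
    rwa [e] at this

theorem exists_wd {p : Equiv.Perm (Fin chevF4.nroots)} (hp : InW1 p) : ∃ k, pW (wd k) = p := by
  refine w1_induction (fun p => ∃ k, pW (wd k) = p) ⟨0, ?_⟩ (fun q a _ _ h => ?_) hp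
  · rw [wd_small.1, pW_nil]
  · obtain ⟨k, rfl⟩ := h
    obtain ⟨k', hk'⟩ := wd_step k a
    exact ⟨k', by rw [← pW_single a, ← pW_append]; exact Equiv.ext fun r => (hk' r).symm⟩

theorem wd_injective : Function.Injective fun k => pW (wd k) :=
  fun _ _ e => wd_inj _ _ (Equiv.ext_iff.1 e)

theorem invCard_wd (k : Fin 16) : invCard (pW (wd k)) = 2 * nN k := by
  rw [invCard_eq, ← wd_len k]
  exact congrArg Finset.card (by ext r; simp [invSet])

/-- The only elements commuting with the symmetry in the Weyl group of an orbit. -/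
theorem rank_one {p : Equiv.Perm (Fin chevF4.nroots)} (hp : InW1 p) {a : Fin 2}
    (hJ : p ∈ wJ facts_chevF4.{0} (nodes a)) : p = 1 ∨ p = wA a := by
  obtain ⟨k, rfl⟩ := exists_wd hp
  rcases wd_rank_one a k fun r h1 h2 => (wA_inverted a r h1).2.2 fun j hj =>
      coef_eq_zero_of_inverted _ hJ h1 h2 fun h => hj (mem_nodes.1 h) with h | h
  · left
    rw [show k = 0 from Fin.ext h, wd_small.1, pW_nil]
  · right
    rw [wd_small.2 a k h, pW_single]

end ReeF4

end Cfsg.Agent.Chev
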